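import Groth.Agent.L27.NormalSepClosed.Scheme
import Groth.Agent.L00.FEtFaithful
import Mathlib.AlgebraicGeometry.Morphisms.Finite
import Mathlib.AlgebraicGeometry.Morphisms.Preimmersion

/-! # Finite etale covers of normal schemes: restriction to generic parts is fully faithful -/

universe u

open CategoryTheory CategoryTheory.Limits AlgebraicGeometry TopologicalSpace

set_option backward.isDefEq.respectTransparency.types false
set_option linter.style.haveILetI false
set_option linter.unusedSectionVars false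

namespace Groth.L27.NormalSepClosed

/-- Every nonempty clopen of a finite etale cover meets the preimage of the range. -/
def MeetsClopens {Y X : Scheme.{u}} (f : Y ⟶ X) : Prop :=
  ∀ (Z : Scheme.{u}) (z : Z ⟶ X) [Etale z] [IsFinite z] (C : Set Z), IsClopen C → C.Nonempty →
    ∃ c ∈ C, z c ∈ Set.range f

/-- A finite etale morphism which becomes an isomorphism on a part meeting all clopens is one. -/
theorem isIso_of_restrict {B V W : Scheme.{u}} (b : B ⟶ V) [Etale b] [IsFinite b] (f : W ⟶ V)
    (hP : MeetsClopens f) [IsIso (pullback.snd b f)] : IsIso b := by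
  let Δ := pullback.diagonal b
  let z : pullback b b ⟶ V := pullback.fst b b ≫ b
  haveI : Etale z := inferInstance
  haveI : IsFinite z := inferInstance
  haveI : Surjective Δ := ⟨fun c => by
    by_contra hc
    obtain ⟨c', hc', w, hw⟩ := hP _ z (Set.range Δ)ᶜ
      (IsClopen.compl ⟨Δ.isClosedEmbedding.isClosed_range, Δ.isOpenEmbedding.isOpen_range⟩)
      ⟨c, fun ⟨a, ha⟩ => hc ⟨a, ha⟩⟩
    obtain ⟨d, hd, -⟩ := Scheme.Pullback.exists_preimage_pullback (f := z) (g := f) c' w hw.symm
    apply hc'
    let e : pullback z f ⟶ pullback b b := pullback.fst z f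
    have h12 : e ≫ pullback.fst b b = e ≫ pullback.snd b b := by
      have w1 : (e ≫ pullback.fst b b) ≫ b = pullback.snd z f ≫ f :=
        (Category.assoc _ _ _).trans pullback.condition
      have w2 : (e ≫ pullback.snd b b) ≫ b = pullback.snd z f ≫ f := by
        rw [Category.assoc, ← pullback.condition (f := b) (g := b)]
        exact pullback.condition
      have h : pullback.lift (e ≫ pullback.fst b b) _ w1 = pullback.lift (e ≫ pullback.snd b b) _ w2 := by
        rw [← cancel_mono (pullback.snd b f), pullback.lift_snd, pullback.lift_snd]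
      have := congrArg (· ≫ pullback.fst b f) h
      exact (pullback.lift_fst _ _ _).symm.trans (this.trans (pullback.lift_fst _ _ _))
    have he : (e ≫ pullback.fst b b) ≫ Δ = e := by
      apply pullback.hom_ext
      · simp [Δ]
      · simp [Δ, h12]
    refine ⟨(e ≫ pullback.fst b b) d, ?_⟩
    rw [← Scheme.Hom.comp_apply, he]
    exact hd⟩
  haveI : IsOpenImmersion Δ := inferInstance
  haveI : IsIso Δ := by
    haveI : Epi Δ.base := (TopCat.epi_iff_surjective _).2 Δ.surjective
    exact IsOpenImmersion.isIso Δ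
  haveI : Mono b := (pullback.isIso_diagonal_iff b).1 inferInstance
  haveI : IsOpenImmersion b := IsOpenImmersion.of_flat_of_mono b
  haveI : Epi b.base := (TopCat.epi_iff_surjective _).2 fun v => by
    by_contra hv
    obtain ⟨v', hv', w, hw⟩ := hP V (𝟙 V) (Set.range b)ᶜ
      (IsClopen.compl ⟨b.isClosedMap.isClosed_range, b.isOpenEmbedding.isOpen_range⟩)
      ⟨v, fun ⟨a, ha⟩ => hv ⟨a, ha⟩⟩
    obtain ⟨p, hp⟩ := (pullback.snd b f).surjective w
    refine hv' ⟨pullback.fst b f p, ?_⟩
    rw [← Scheme.Hom.comp_apply, pullback.condition, Scheme.Hom.comp_apply, hp, hw]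
    rfl
  exact IsOpenImmersion.isIso b

variable {Y X : Scheme.{u}} [IsIntegral X] (hN : ∀ x : X, IsIntegrallyClosed (X.presheaf.stalk x))
  (f : Y ⟶ X)

omit hN in
theorem meetsClopens_of_mem (hf : genericPoint X ∈ Set.range f) : MeetsClopens f := by
  intro Z z _ _ C hC ⟨c, hc⟩
  obtain ⟨ξ, hξ, hξc⟩ := exists_generic z c
  exact ⟨ξ, hξc.mem_open hC.2 hc, hξ ▸ hf⟩

omit hN in
theorem faithful_restrict_of_mem (hf : genericPoint X ∈ Set.range f) : (FEt.restrict f).Faithful :=
  Groth.L00.FEtFaithful.faithful_restrict f fun V O hO hne => by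
    haveI : Etale V.hom := V.prop.2
    haveI : IsFinite V.hom := V.prop.1
    obtain ⟨c, hc, h⟩ := meetsClopens_of_mem f hf V.left V.hom O hO hne
    exact ⟨_, ⟨c, hc, rfl⟩, h⟩

include hN in
theorem full_restrict_of_preimmersion [IsPreimmersion f] [IrreducibleSpace Y]
    (hf : f (genericPoint Y) = genericPoint X) : (FEt.restrict f).Full := by
  refine ⟨fun {V W} φ => ?_⟩
  haveI : Etale V.hom := V.prop.2
  haveI : IsFinite V.hom := V.prop.1
  haveI : Etale W.hom := W.prop.2
  haveI : IsFinite W.hom := W.prop.1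
  let T := pullback V.hom W.hom
  let pr₁ : T ⟶ V.left := pullback.fst V.hom W.hom
  let t : T ⟶ X := pr₁ ≫ V.hom
  haveI : Etale t := inferInstance
  haveI : IsFinite t := inferInstance
  let p : pullback t f ⟶ T := pullback.fst t f
  haveI : IsPreimmersion p := MorphismProperty.pullback_fst (P := @IsPreimmersion) t f inferInstance
  let fV := pullback.fst V.hom f
  let qV : pullback t f ⟶ pullback V.hom f := pullback.lift (p ≫ pr₁) (pullback.snd t f)
    ((Category.assoc _ _ _).trans pullback.condition)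
  have hφw : φ.left ≫ pullback.snd W.hom f = pullback.snd V.hom f := MorphismProperty.Over.w φ
  let γ₁ : pullback V.hom f ⟶ T := pullback.lift fV (φ.left ≫ pullback.fst W.hom f) (by
    refine (pullback.condition).trans ?_
    refine (congrArg (· ≫ f) hφw.symm).trans ?_
    refine (Category.assoc _ _ _).trans (Eq.trans ?_ (Category.assoc _ _ _).symm)
    exact congrArg (φ.left ≫ ·) pullback.condition.symm)
  have hγ₁ : γ₁ ≫ t = pullback.snd V.hom f ≫ f := by
    rw [← Category.assoc, pullback.lift_fst]; exact pullback.condition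
  let γ : pullback V.hom f ⟶ pullback t f := pullback.lift γ₁ (pullback.snd V.hom f) hγ₁
  have hγq : γ ≫ qV = 𝟙 _ := by
    apply pullback.hom_ext
    · rw [Category.assoc, pullback.lift_fst, ← Category.assoc, pullback.lift_fst, pullback.lift_fst,
        Category.id_comp]
    · rw [Category.assoc, pullback.lift_snd, pullback.lift_snd, Category.id_comp]
  have sq : IsPullback p qV pr₁ fV := by
    refine IsPullback.of_bot (h₂₁ := fV) (v₂₁ := pullback.snd V.hom f) ?_ (pullback.lift_fst _ _ _).symm
      (IsPullback.of_hasPullback V.hom f)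
    have : qV ≫ pullback.snd V.hom f = pullback.snd t f := pullback.lift_snd _ _ _
    rw [this]
    exact IsPullback.of_hasPullback t f
  haveI : Etale qV := MorphismProperty.of_isPullback (P := @Etale) sq inferInstance
  haveI : IsFinite qV := MorphismProperty.of_isPullback (P := @IsFinite) sq inferInstance
  haveI : IsClosedImmersion (γ ≫ qV) := hγq.symm ▸ inferInstance
  haveI : IsClosedImmersion γ := IsClosedImmersion.of_comp γ qV
  haveI : Etale (γ ≫ qV) := hγq.symm ▸ inferInstance
  haveI : Etale γ := Etale.of_comp γ qV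
  haveI : IsOpenImmersion γ := IsOpenImmersion.of_flat_of_mono γ
  let S : Set T := {ξ | t ξ = genericPoint X ∧ ξ ∈ p '' Set.range γ}
  haveI : QuasiCompact t := inferInstance
  haveI := Groth.L23.lqf_of_etale t
  have hS : S.Finite := (t.finite_preimage_singleton (genericPoint X)).subset fun ξ h => h.1
  let G : T.Opens := ⟨⋃ ξ ∈ S, closure {ξ}, isOpen_biUnion fun ξ h => isOpen_closure t hN h.1⟩
  have hGc : IsClosed (G : Set T) := hS.isClosed_biUnion fun _ _ => isClosed_closure
  have hpG : p ⁻¹' (G : Set T) = Set.range γ := by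
    by_contra hne
    let D : Set (pullback t f : Scheme.{u}) := symmDiff (p ⁻¹' (G : Set T)) (Set.range γ)
    have hDo : IsOpen D := (((G.2.preimage p.continuous).inter γ.isClosedEmbedding.isClosed_range.isOpen_compl)).union
      (γ.isOpenEmbedding.isOpen_range.inter (hGc.preimage p.continuous).isOpen_compl)
    obtain ⟨d, hd⟩ : D.Nonempty := Set.nonempty_iff_ne_empty.2 fun h => hne (symmDiff_eq_bot.1 h)
    haveI : Etale (pullback.snd t f) := inferInstance
    obtain ⟨c, hc, hcη⟩ : genericPoint Y ∈ pullback.snd t f '' D :=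
      ((genericPoint_spec Y).mem_open_set_iff ((pullback.snd t f).isOpenMap _ hDo)).2
        ⟨_, trivial, d, hd, rfl⟩
    have htc : t (p c) = genericPoint X := by
      rw [← Scheme.Hom.comp_apply, pullback.condition, Scheme.Hom.comp_apply, hcη, hf]
    have hiff : c ∈ p ⁻¹' (G : Set T) ↔ c ∈ Set.range γ := by
      refine ⟨fun h => ?_, fun h => Set.mem_iUnion₂.2 ⟨p c, ⟨htc, c, h, rfl⟩, subset_closure rfl⟩⟩
      obtain ⟨ξ, ⟨hξ, c', hc', rfl⟩, hcl⟩ := Set.mem_iUnion₂.1 h
      have : p c = p c' := (eq_of_specializes t htc (specializes_iff_mem_closure.2 hcl)).symm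
      rwa [p.isEmbedding.injective this]
    rcases hc with ⟨h1, h2⟩ | ⟨h1, h2⟩
    · exact h2 (hiff.1 h1)
    · exact h2 (hiff.2 h1)
  haveI : IsClosedImmersion (Scheme.Opens.ι G) :=
    IsClosedImmersion.of_isPreimmersion (Scheme.Opens.ι G) (by rw [Scheme.Opens.range_ι]; exact hGc)
  let b : (G : Scheme.{u}) ⟶ V.left := Scheme.Opens.ι G ≫ pr₁
  let O : (pullback t f : Scheme.{u}).Opens := p ⁻¹ᵁ G
  have sqb : IsPullback (p ∣_ G) (Scheme.Opens.ι O ≫ qV) b fV :=
    (isPullback_morphismRestrict p G).paste_vert sq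
  have hr : Set.range γ = Set.range (Scheme.Opens.ι O) := by
    rw [Scheme.Opens.range_ι]; exact hpG.symm
  let γ' : pullback V.hom f ⟶ O := IsOpenImmersion.lift (Scheme.Opens.ι O) γ hr.subset
  have hγ' : γ' ≫ Scheme.Opens.ι O = γ := IsOpenImmersion.lift_fac _ _ _
  haveI : IsIso (Scheme.Opens.ι O ≫ qV) := by
    haveI : IsOpenImmersion (γ' ≫ Scheme.Opens.ι O) := hγ'.symm ▸ inferInstance
    haveI : IsOpenImmersion γ' := IsOpenImmersion.of_comp γ' (Scheme.Opens.ι O)
    haveI : IsIso γ' := by
      haveI : Epi γ'.base := (TopCat.epi_iff_surjective _).2 fun o => by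
        obtain ⟨a, ha⟩ := hr.symm.subset ⟨o, rfl⟩
        exact ⟨a, (Scheme.Opens.ι O).isEmbedding.injective
          ((Scheme.Hom.comp_apply _ _ _).symm.trans ((congr($hγ' a)).trans ha))⟩
      exact IsOpenImmersion.isIso γ'
    have h : γ' ≫ (Scheme.Opens.ι O ≫ qV) = 𝟙 _ := by rw [← Category.assoc, hγ', hγq]
    have h2 : Scheme.Opens.ι O ≫ qV = inv γ' := by rw [← cancel_epi γ', h, IsIso.hom_inv_id]
    rw [h2]
    infer_instance
  haveI : IsIso (pullback.snd b fV) := by
    rw [← sqb.isoPullback_inv_snd]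
    infer_instance
  haveI : IsIso b := isIso_of_restrict b fV (fun Z z _ _ C hC hne => by
    obtain ⟨c, hc, y, hy⟩ := meetsClopens_of_mem f ⟨_, hf⟩ Z (z ≫ V.hom) C hC hne
    obtain ⟨w, hw, -⟩ := Scheme.Pullback.exists_preimage_pullback (f := V.hom) (g := f) (z c) y
      (by rw [hy]; exact (Scheme.Hom.comp_apply _ _ _).symm)
    exact ⟨c, hc, w, hw⟩)
  have hwb : (inv b ≫ Scheme.Opens.ι G ≫ pullback.snd V.hom W.hom) ≫ W.hom = V.hom := by
    rw [Category.assoc, Category.assoc, IsIso.inv_comp_eq]
    exact (congrArg (Scheme.Opens.ι G ≫ ·) pullback.condition.symm).trans (Category.assoc _ _ _).symm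
  refine ⟨MorphismProperty.Over.homMk (inv b ≫ Scheme.Opens.ι G ≫ pullback.snd V.hom W.hom) hwb, ?_⟩
  have hl : γ' ≫ (p ∣_ G) ≫ Scheme.Opens.ι G = γ₁ := by
    rw [morphismRestrict_ι, ← Category.assoc, hγ', pullback.lift_fst]
  have hlb : γ' ≫ (p ∣_ G) = fV ≫ inv b := by
    rw [IsIso.eq_comp_inv]
    show (γ' ≫ p ∣_ G) ≫ Scheme.Opens.ι G ≫ pr₁ = fV
    rw [← Category.assoc, Category.assoc γ', hl]
    exact pullback.lift_fst _ _ _
  refine MorphismProperty.Over.Hom.ext (pullback.hom_ext ?_ ?_)
  · refine (pullback.lift_fst _ _ _).trans ?_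
    show fV ≫ inv b ≫ Scheme.Opens.ι G ≫ pullback.snd V.hom W.hom = _
    rw [← Category.assoc fV (inv b), ← hlb, Category.assoc, ← Category.assoc (p ∣_ G),
      ← Category.assoc γ', hl]
    exact pullback.lift_snd _ _ _
  · exact (pullback.lift_snd _ _ _).trans hφw.symm

/-- A connected finite etale cover of an integral normal scheme is integral. -/
theorem isIntegral_of_connected {U : Scheme.{u}} (g : U ⟶ X) [Etale g] [IsFinite g] [ConnectedSpace U]
    (hN : ∀ x : X, IsIntegrallyClosed (X.presheaf.stalk x)) : IsIntegral U := by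
  haveI := fun u => isDomain_stalk g hN u
  haveI : IsReduced U := isReduced_of_isReduced_stalk U
  obtain ⟨ξ, hξ, -⟩ := exists_generic g (Classical.arbitrary U)
  have h : closure ({ξ} : Set U) = Set.univ :=
    IsClopen.eq_univ ⟨isClosed_closure, isOpen_closure g hN hξ⟩ ⟨ξ, subset_closure rfl⟩
  haveI : IrreducibleSpace U :=
    { toNonempty := inferInstance
      isPreirreducible_univ := h ▸ isIrreducible_singleton.closure.isPreirreducible }
  exact isIntegral_of_irreducibleSpace_of_isReduced U

end Groth.L27.NormalSepClosed
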