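import Mathlib.RingTheory.Henselian
import Mathlib.RingTheory.Polynomial.GaussLemma
import Mathlib.RingTheory.Polynomial.UniqueFactorization
import Mathlib.FieldTheory.IsSepClosed
import Groth.Prelude.Def_EtBase

/-! # Normal local domains with separably closed fraction field are strictly henselian -/

universe u

open Polynomial IsLocalRing

set_option linter.style.haveILetI false

namespace Groth.L27.NormalSepClosed

variable {R : Type u} [CommRing R] [IsDomain R] [IsLocalRing R] [IsIntegrallyClosed R]
  (K : Type u) [Field K] [Algebra R K] [IsFractionRing R K] [IsSepClosed K]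

include K in
/-- A monic polynomial with a simple root modulo the maximal ideal has a root lifting it. -/
theorem exists_isRoot (f : R[X]) (hf : f.Monic) (a₀ : ResidueField R)
    (h0 : aeval a₀ f = 0) (h1 : aeval a₀ (derivative f) ≠ 0) :
    ∃ a : R, f.IsRoot a ∧ residue R a = a₀ := by
  induction hn : f.natDegree using Nat.strong_induction_on generalizing f with
  | _ n ih =>
  by_cases hn1 : f.natDegree = 1
  · refine ⟨-f.coeff 0, ?_, ?_⟩
    · rw [IsRoot]
      conv_lhs => rw [hf.eq_X_add_C hn1]
      simp
    · rw [hf.eq_X_add_C hn1] at h0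
      simp only [map_add, aeval_X, aeval_C] at h0
      rw [map_neg]
      exact (eq_neg_of_add_eq_zero_left h0).symm
  · by_cases hirr : Irreducible f
    · exfalso
      have hK : Irreducible (f.map (algebraMap R K)) := (hf.irreducible_iff_irreducible_map_fraction_map).1 hirr
      have hd : derivative (f.map (algebraMap R K)) ≠ 0 := by
        rw [derivative_map, Ne, Polynomial.map_eq_zero_iff (IsFractionRing.injective R K)]
        intro h
        exact h1 (by rw [h, map_zero])
      have hs : (f.map (algebraMap R K)).Separable := (separable_iff_derivative_ne_zero hK).2 hd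
      obtain ⟨r, hr⟩ := IsSepClosed.exists_root (f.map (algebraMap R K)) (by
        rw [hf.degree_map]
        intro h
        have h0 := natDegree_eq_of_degree_eq_some h
        exact hirr.not_isUnit (hf.natDegree_eq_zero.1 h0 ▸ isUnit_one)) hs
      have := degree_eq_one_of_irreducible_of_root hK hr
      rw [hf.degree_map] at this
      exact hn1 (natDegree_eq_of_degree_eq_some this)
    · obtain ⟨p, q, hp, hq, hfpq, hlt⟩ : ∃ p q : R[X], p.Monic ∧ q.Monic ∧ f = p * q ∧
          p.natDegree < f.natDegree ∧ q.natDegree < f.natDegree := by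
        have hf1 : f ≠ 1 := fun h => by
          rw [h, map_one] at h0
          exact one_ne_zero h0
        rw [hf.irreducible_iff_natDegree'] at hirr
        push Not at hirr
        obtain ⟨g, k, hg, hk, hgk, hmem⟩ := hirr hf1
        refine ⟨g, k, hg, hk, hgk.symm, ?_⟩
        rw [← hgk, hg.natDegree_mul hk]
        rw [← hgk, hg.natDegree_mul hk, Finset.mem_Ioc] at hmem
        omega
      subst hn
      rw [hfpq, map_mul, mul_eq_zero] at h0
      have hder : aeval a₀ (derivative f) =
          aeval a₀ (derivative p) * aeval a₀ q + aeval a₀ p * aeval a₀ (derivative q) := by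
        rw [hfpq, derivative_mul, map_add, map_mul, map_mul]
      rcases h0 with h0 | h0
      · obtain ⟨a, ha, ha'⟩ := ih _ hlt.1 p hp h0 (fun h => h1 (by rw [hder, h0, h]; ring)) rfl
        exact ⟨a, by rw [IsRoot, hfpq, eval_mul, ha.eq_zero, zero_mul], ha'⟩
      · obtain ⟨a, ha, ha'⟩ := ih _ hlt.2 q hq h0 (fun h => h1 (by rw [hder, h0, h]; ring)) rfl
        exact ⟨a, by rw [IsRoot, hfpq, eval_mul, ha.eq_zero, mul_zero], ha'⟩

include K in
theorem henselianLocalRing : HenselianLocalRing R :=
  ((HenselianLocalRing.TFAE R).out 0 1).2 fun f hf a₀ h0 h1 => exists_isRoot K f hf a₀ h0 h1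

include K in
theorem isSepClosed_residueField : IsSepClosed (ResidueField R) := by
  refine IsSepClosed.of_exists_root _ fun p hpm hirr hsep => ?_
  obtain ⟨F, hFmap, hFdeg, hFm⟩ := lifts_and_degree_eq_and_monic
    (map_surjective (residue R) residue_surjective p) hpm
  have hdeg0 : 0 < p.natDegree := hirr.natDegree_pos
  have hFn : F.natDegree = p.natDegree := natDegree_eq_of_degree_eq hFdeg
  -- the lift is separable over the fraction field
  have hFK : (F.map (algebraMap R K)).Separable := by
    obtain ⟨a, b, hab⟩ := hsep
    obtain ⟨a', ha'⟩ := map_surjective (residue R) residue_surjective a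
    obtain ⟨b', hb'⟩ := map_surjective (residue R) residue_surjective b
    rw [separable_def]
    refine isCoprime_of_irreducible_dvd
      (fun h => (hFm.map (algebraMap R K)).ne_zero h.1) fun z hz hz1 hz2 => ?_
    classical
    let g := normalize z
    have hg : g.Monic := monic_normalize hz.ne_zero
    have hg1 : g ∣ F.map (algebraMap R K) := normalize_dvd_iff.2 hz1
    have hg2 : g ∣ derivative (F.map (algebraMap R K)) := normalize_dvd_iff.2 hz2
    have hgu : ¬ IsUnit g := fun h => hz.not_isUnit ((associated_normalize z).isUnit_iff.2 h)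
    obtain ⟨g', hg'⟩ := IsIntegrallyClosed.eq_map_mul_C_of_dvd K hFm hg1
    rw [hg.leadingCoeff, C_1, mul_one] at hg'
    have hg'm : g'.Monic := monic_of_injective (IsFractionRing.injective R K) (hg' ▸ hg)
    have d1 : g' ∣ F := (map_dvd_map _ (IsFractionRing.injective R K) hg'm).1 (hg' ▸ hg1)
    have d2 : g' ∣ derivative F := (map_dvd_map _ (IsFractionRing.injective R K) hg'm).1 (by
      rw [hg', ← derivative_map]
      exact hg2)
    have h1 : g'.map (residue R) ∣ 1 := by
      rw [← hab]
      exact dvd_add ((hFmap ▸ Polynomial.map_dvd _ d1).mul_left _)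
        ((by rw [← hFmap, derivative_map]; exact Polynomial.map_dvd _ d2 : g'.map (residue R) ∣ derivative p).mul_left _)
    have := natDegree_eq_zero_of_isUnit (isUnit_of_dvd_one h1)
    rw [hg'm.natDegree_map, ← hg'm.natDegree_map (algebraMap R K), hg'] at this
    exact hgu (hg.natDegree_eq_zero.1 this ▸ isUnit_one)
  obtain ⟨r, hr⟩ := IsSepClosed.exists_root (F.map (algebraMap R K)) (by
    rw [hFm.degree_map]
    intro h
    have h0 : F.natDegree = 0 := natDegree_eq_of_degree_eq_some h
    omega) hFK
  have hint : IsIntegral R r := ⟨F, hFm, by rwa [IsRoot, eval_map] at hr⟩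
  obtain ⟨r', rfl⟩ := IsIntegrallyClosed.isIntegral_iff.1 hint
  refine ⟨residue R r', ?_⟩
  have : F.eval r' = 0 := IsFractionRing.injective R K (by
    rw [map_zero, ← eval₂_at_apply, ← eval_map]; exact hr)
  rw [← hFmap, eval_map, eval₂_at_apply, this, map_zero]

include K in
theorem isStrictlyHenselian : EtCoh.IsStrictlyHenselianLocalRing R :=
  ⟨henselianLocalRing K, isSepClosed_residueField K⟩

end Groth.L27.NormalSepClosed
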