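import Groth.Agent.L27.NormalSepClosed.Algebra
import Groth.Agent.L27.EtSite.StrictLocal
import Groth.Agent.S7180
import Groth.Agent.L23.LocalDimEtale
import Mathlib.AlgebraicGeometry.FunctionField
import Mathlib.AlgebraicGeometry.SpreadingOut
import Mathlib.AlgebraicGeometry.Morphisms.FlatMono
import Mathlib.AlgebraicGeometry.Morphisms.FormallyUnramified
import Mathlib.AlgebraicGeometry.Morphisms.QuasiFinite
import Mathlib.AlgebraicGeometry.Morphisms.UniversallyOpen

/-! # Etale schemes over integral normal schemes -/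

universe u

open CategoryTheory CategoryTheory.Limits AlgebraicGeometry Opposite TopologicalSpace

set_option backward.isDefEq.respectTransparency.types false
set_option linter.style.haveILetI false
set_option linter.unusedSectionVars false

namespace Groth.L27.NormalSepClosed

variable {U X : Scheme.{u}} [IsIntegral X] (g : U ⟶ X) [Etale g]

include g in
theorem isDomain_stalk (hN : ∀ x : X, IsIntegrallyClosed (X.presheaf.stalk x)) (u : U) :
    IsDomain (U.presheaf.stalk u) :=
  (Groth.Agent.S7180.result g (fun x => ⟨inferInstance, hN x⟩) u).1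

/-- Points over the generic point are maximal for specialization. -/
theorem eq_of_specializes {ξ ξ' : U} (h : g ξ = genericPoint X) (h' : ξ' ⤳ ξ) : ξ' = ξ := by
  have h1 : g ξ' = genericPoint X :=
    ((h ▸ h'.map g.continuous).antisymm ((genericPoint_spec X).specializes (Set.mem_univ _))).eq
  haveI := Groth.L23.lqf_of_etale g
  have hd : DiscreteTopology (g ⁻¹' {genericPoint X}) :=
    (g.isDiscrete_preimage_singleton (genericPoint X)).1
  have : (⟨ξ', h1⟩ : g ⁻¹' {genericPoint X}) ⤳ ⟨ξ, h⟩ := (subtype_specializes_iff _ _).2 h'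
  exact congrArg Subtype.val this.eq

/-- Every point has a generization over the generic point. -/
theorem exists_generic (u : U) : ∃ ξ : U, g ξ = genericPoint X ∧ ξ ⤳ u := by
  obtain ⟨ξ, h1, h2⟩ := Flat.generalizingMap g ((genericPoint_spec X).specializes (Set.mem_univ (g u)))
  exact ⟨ξ, h2, h1⟩

variable (hN : ∀ x : X, IsIntegrallyClosed (X.presheaf.stalk x))
include hN

theorem generic_unique {u ξ ξ' : U} (h : g ξ = genericPoint X) (hu : ξ ⤳ u)
    (h' : g ξ' = genericPoint X) (hu' : ξ' ⤳ u) : ξ = ξ' := by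
  haveI := isDomain_stalk g hN u
  let b : Spec (U.presheaf.stalk u) := ⟨⊥, Ideal.isPrime_bot⟩
  have key : ∀ ζ : U, g ζ = genericPoint X → ζ ⤳ u → U.fromSpecStalk u b = ζ := by
    intro ζ hζ hζu
    obtain ⟨p, hp⟩ : ζ ∈ Set.range (U.fromSpecStalk u) := by
      rw [Scheme.range_fromSpecStalk]; exact hζu
    refine eq_of_specializes g hζ (hp ▸ Specializes.map ?_ (U.fromSpecStalk u).continuous)
    exact (PrimeSpectrum.le_iff_specializes _ _).1 bot_le
  exact (key ξ h hu).symm.trans (key ξ' h' hu')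

/-- The closure of a point over the generic point is open. -/
theorem isOpen_closure {ξ : U} (hξ : g ξ = genericPoint X) : IsOpen (closure ({ξ} : Set U)) := by
  refine isOpen_iff_forall_mem_open.2 fun u hu => ?_
  have hξu : ξ ⤳ u := specializes_iff_mem_closure.2 hu
  obtain ⟨_, ⟨(B : X.Opens), hB, rfl⟩, hxB, -⟩ :=
    X.isBasis_affineOpens.exists_subset_of_mem_open (Set.mem_univ (g u)) isOpen_univ
  obtain ⟨_, ⟨(A : U.Opens), hA, rfl⟩, huA, hAB⟩ :=
    U.isBasis_affineOpens.exists_subset_of_mem_open (show u ∈ (g ⁻¹ᵁ B : Set U) from hxB) (g ⁻¹ᵁ B).2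
  haveI : IsAffine (A : Scheme.{u}) := hA
  haveI : IsAffine (B : Scheme.{u}) := hB
  haveI := Groth.L23.lqf_of_etale g
  have hres : ∀ w : (A : Scheme.{u}), B.ι (g.resLE B A hAB w) = g (A.ι w) := fun w =>
    congr($(g.resLE_comp_ι (U := B) (V := A) hAB) w)
  have hηB : genericPoint X ∈ B := ((genericPoint_spec X).mem_open_set_iff B.2).2 ⟨_, ⟨trivial, hxB⟩⟩
  let F : Set U := (A.ι '' ((g.resLE B A hAB) ⁻¹' {⟨genericPoint X, hηB⟩})) \ {ξ}
  have hF : F.Finite := (((g.resLE B A hAB).finite_preimage_singleton _).image _).sdiff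
  refine ⟨(A : Set U) ∩ (⋃ z ∈ F, closure {z})ᶜ, fun a ⟨ha, ha'⟩ => ?_,
    A.2.inter (hF.isClosed_biUnion fun _ _ => isClosed_closure).isOpen_compl, huA, ?_⟩
  · obtain ⟨z, hz, hza⟩ := exists_generic g a
    by_contra hn
    refine ha' (Set.mem_iUnion₂.2 ⟨z, ⟨⟨⟨z, hza.mem_open A.2 ha⟩, ?_, rfl⟩, ?_⟩,
      specializes_iff_mem_closure.1 hza⟩)
    · refine Subtype.ext ?_
      exact (hres _).trans hz
    · rintro rfl
      exact hn (specializes_iff_mem_closure.1 hza)
  · intro hmem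
    obtain ⟨z, ⟨⟨w, hw, rfl⟩, hzξ⟩, hzu⟩ := Set.mem_iUnion₂.1 hmem
    refine hzξ (generic_unique g hN ?_ (specializes_iff_mem_closure.2 hzu) hξ hξu)
    have := congrArg Subtype.val (Set.mem_singleton_iff.1 hw)
    exact (hres w).symm.trans this

omit hN in
/-- An etale morphism has a section through any point over a strictly henselian local ring. -/
theorem exists_local_section (u : U) (hs : EtCoh.IsStrictlyHenselianLocalRing (X.presheaf.stalk (g u))) :
    ∃ (V : X.Opens) (hV : g u ∈ V) (s : V.toScheme ⟶ U),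
      s ≫ g = V.ι ∧ s ⟨g u, hV⟩ = u ∧ IsOpenImmersion s := by
  obtain ⟨hh, hsc⟩ := hs
  haveI := hh
  haveI : IsSepClosed (X.residueField (g u)) := hsc
  letI := (g.residueFieldMap u).hom.toAlgebra
  haveI : Algebra.IsSeparable (X.residueField (g u)) (U.residueField u) := inferInstance
  haveI : IsIso (g.residueFieldMap u) := (ConcreteCategory.isIso_iff_bijective _).2
    (IsSepClosed.algebraMap_bijective (X.residueField (g u)) (U.residueField u))
  let y₀ : Spec (X.residueField (g u)) ⟶ U :=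
    inv (Spec.map (g.residueFieldMap u)) ≫ U.fromSpecResidueField u
  have hy₀ : y₀ ≫ g = X.fromSpecResidueField (g u) := by
    rw [Category.assoc, IsIso.inv_comp_eq, Scheme.Hom.SpecMap_residueFieldMap_fromSpecResidueField]
  let U' : (Spec (X.presheaf.stalk (g u))).Etale :=
    (EtCoh.bc (X.fromSpecStalk (g u))).obj (Scheme.Etale.mk g)
  let y : (Scheme.pointSmallEtale (EtSite.closedPt (X.presheaf.stalk (g u)))).fiber.obj U' :=
    Over.homMk (pullback.lift y₀ (EtSite.closedPt (X.presheaf.stalk (g u))) (hy₀.trans rfl)) (pullback.lift_snd _ _ _)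
  obtain ⟨σ, hσ⟩ := @EtSite.exists_section (X.presheaf.stalk (g u)) _ hh hsc U' y
  let φ : Spec (X.presheaf.stalk (g u)) ⟶ U := σ.left ≫ pullback.fst g (X.fromSpecStalk (g u))
  have hφ : φ ≫ g = X.fromSpecStalk (g u) ≫ 𝟙 X := by
    have h1 : σ.left ≫ pullback.snd g (X.fromSpecStalk (g u)) = 𝟙 _ := Over.w σ.hom
    refine (Category.assoc _ _ _).trans ((congrArg (σ.left ≫ ·) pullback.condition).trans ?_)
    exact (Category.assoc _ _ _).symm.trans ((congrArg (· ≫ X.fromSpecStalk (g u)) h1).trans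
      ((Category.id_comp _).trans (Category.comp_id _).symm))
  have hclosed : EtSite.closedPt (X.presheaf.stalk (g u)) ≫ φ = y₀ := by
    have h1 : EtSite.closedPt (X.presheaf.stalk (g u)) ≫ σ.left =
        pullback.lift y₀ (EtSite.closedPt (X.presheaf.stalk (g u))) (hy₀.trans rfl) := congrArg (fun z => z.left) hσ
    exact (Category.assoc _ _ _).symm.trans ((congrArg (· ≫ pullback.fst g _) h1).trans (pullback.lift_fst _ _ _))
  obtain ⟨V, hV, s, hs1, hs2⟩ := spread_out_of_isGermInjective' (𝟙 X) g φ hφ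
  refine ⟨V, hV, s, by simpa using hs2, ?_, ?_⟩
  · have : y₀ default = u := by
      simp only [y₀, Scheme.Hom.comp_apply]
      exact Scheme.fromSpecResidueField_apply _ _
    conv_rhs => rw [← this, ← hclosed, hs1]
    simp only [Scheme.Hom.comp_apply]
    refine congrArg s (Subtype.ext ?_)
    have := congr($(V.fromSpecStalkOfMem_ι (g u) hV) (EtSite.closedPt (X.presheaf.stalk (g u)) default))
    refine Eq.trans ?_ this.symm
    exact (Scheme.fromSpecResidueField_apply (g u) default).symm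
  · have hs3 : s ≫ g = V.ι := by simpa using hs2
    haveI : Mono (s ≫ g) := hs3 ▸ inferInstance
    haveI : Mono s := mono_of_mono s g
    haveI : Etale (s ≫ g) := hs3 ▸ inferInstance
    haveI : Etale s := Etale.of_comp s g
    exact IsOpenImmersion.of_flat_of_mono s

omit hN in
theorem isIso_stalkMap (u : U) (hs : EtCoh.IsStrictlyHenselianLocalRing (X.presheaf.stalk (g u))) :
    IsIso (g.stalkMap u) := by
  obtain ⟨V, hV, s, hsg, hsu, _⟩ := exists_local_section g u hs
  have h : g.stalkMap (s ⟨g u, hV⟩) ≫ s.stalkMap ⟨g u, hV⟩ =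
      (X.presheaf.stalkCongr (.of_eq (congr($hsg ⟨g u, hV⟩)))).hom ≫ V.ι.stalkMap ⟨g u, hV⟩ := by
    rw [← Scheme.Hom.stalkMap_comp]
    exact Scheme.Hom.stalkMap_congr_hom _ _ hsg _
  haveI : IsIso (V.ι.stalkMap ⟨g u, hV⟩) := inferInstance
  have : IsIso (g.stalkMap (s ⟨g u, hV⟩) ≫ s.stalkMap ⟨g u, hV⟩) := h ▸ IsIso.comp_isIso
  have h2 : IsIso (g.stalkMap (s ⟨g u, hV⟩)) := IsIso.of_isIso_comp_right _ (s.stalkMap ⟨g u, hV⟩)
  rwa [hsu] at h2

variable [IsSepClosed X.functionField]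

omit hN in
/-- A section through a generization of `ξ` maps the generic point to `ξ`. -/
theorem section_generic {ξ : U} (hξ : g ξ = genericPoint X) {V : X.Opens} (s : V.toScheme ⟶ U)
    [IsOpenImmersion s] (hs : s ≫ g = V.ι) {w : U} (hw : g w ∈ V) (hsw : s ⟨g w, hw⟩ = w) (hξw : ξ ⤳ w)
    (hη : genericPoint X ∈ V) : s ⟨genericPoint X, hη⟩ = ξ := by
  obtain ⟨z, hz⟩ := hξw.mem_open s.isOpenEmbedding.isOpen_range ⟨_, hsw⟩
  have hz' : z = ⟨genericPoint X, hη⟩ := Subtype.ext (by
    refine Eq.trans ?_ hξ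
    rw [← hz, ← Scheme.Hom.comp_apply, hs]
    rfl)
  rw [← hz', hz]

omit hN in
/-- Two sections agreeing at the generic point agree on the overlap. -/
theorem sections_eq [IsSeparated g] {V V' : X.Opens} (s : V.toScheme ⟶ U) (s' : V'.toScheme ⟶ U)
    [IsOpenImmersion s'] (hs : s ≫ g = V.ι) (hs' : s' ≫ g = V'.ι)
    (hη : genericPoint X ∈ V) (hη' : genericPoint X ∈ V')
    (h : s ⟨genericPoint X, hη⟩ = s' ⟨genericPoint X, hη'⟩)
    (x : X) (hx : x ∈ V) (hx' : x ∈ V') : s ⟨x, hx⟩ = s' ⟨x, hx'⟩ := by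
  let a : (V ⊓ V').toScheme ⟶ U := X.homOfLE inf_le_left ≫ s
  let b : (V ⊓ V').toScheme ⟶ U := X.homOfLE inf_le_right ≫ s'
  have hag : a ≫ g = (V ⊓ V').ι := by rw [Category.assoc, hs, Scheme.homOfLE_ι]
  have hbg : b ≫ g = (V ⊓ V').ι := by rw [Category.assoc, hs', Scheme.homOfLE_ι]
  let V₀ : (V ⊓ V').toScheme.Opens := a ⁻¹ᵁ s'.opensRange
  have ha : ∀ (z : X) (hz : z ∈ V ⊓ V'), a ⟨z, hz⟩ = s ⟨z, hz.1⟩ := fun z hz =>
    (Scheme.Hom.comp_apply _ _ _).trans (congrArg s (Subtype.ext (Scheme.homOfLE_apply _ _)))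
  have hb : ∀ (z : X) (hz : z ∈ V ⊓ V'), b ⟨z, hz⟩ = s' ⟨z, hz.2⟩ := fun z hz =>
    (Scheme.Hom.comp_apply _ _ _).trans (congrArg s' (Subtype.ext (Scheme.homOfLE_apply _ _)))
  haveI : Nonempty (V ⊓ V').toScheme := ⟨⟨_, hη, hη'⟩⟩
  haveI : AlgebraicGeometry.IsIntegral (V ⊓ V').toScheme := inferInstance
  have hV₀ : (⟨genericPoint X, hη, hη'⟩ : (V ⊓ V').toScheme) ∈ V₀ :=
    ⟨⟨genericPoint X, hη'⟩, h.symm.trans (ha _ ⟨hη, hη'⟩).symm⟩
  haveI : IsDominant V₀.ι := by
    refine ⟨?_⟩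
    rw [DenseRange, Scheme.Opens.range_ι]
    exact IsOpen.dense V₀.isOpen ⟨_, hV₀⟩
  have hab : a = b := by
    refine ext_of_isDominant_of_isSeparated g (hag.trans hbg.symm) V₀.ι ?_
    let l := IsOpenImmersion.lift s' (V₀.ι ≫ a) (by rintro _ ⟨z, rfl⟩; exact z.2)
    have hl : l ≫ s' = V₀.ι ≫ a := IsOpenImmersion.lift_fac _ _ _
    have hl' : l = V₀.ι ≫ X.homOfLE inf_le_right := by
      rw [← cancel_mono V'.ι, Category.assoc, Scheme.homOfLE_ι]
      conv_lhs => rw [← hs', ← Category.assoc, hl, Category.assoc, hag]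
    rw [← hl, hl', Category.assoc]
  rw [← ha x ⟨hx, hx'⟩, hab, hb x ⟨hx, hx'⟩]

/-- The branch of a point over the generic point maps isomorphically onto an open subscheme. -/
theorem isOpenImmersion_branch [IsSeparated g] {ξ : U} (hξ : g ξ = genericPoint X) :
    IsOpenImmersion (Scheme.Opens.ι (⟨closure {ξ}, isOpen_closure g hN hξ⟩ : U.Opens) ≫ g) := by
  let W : U.Opens := ⟨_, isOpen_closure g hN hξ⟩
  have hsh : ∀ u : U, EtCoh.IsStrictlyHenselianLocalRing (X.presheaf.stalk (g u)) := fun u => by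
    haveI := hN (g u)
    exact isStrictlyHenselian X.functionField
  have hinj : Function.Injective (W.ι ≫ g) := by
    rintro ⟨u, hu⟩ ⟨u', hu'⟩ e
    have e' : g u = g u' := e
    have hξu : ξ ⤳ u := specializes_iff_mem_closure.2 hu
    have hξu' : ξ ⤳ u' := specializes_iff_mem_closure.2 hu'
    obtain ⟨V, hV, s, hs, hsu, _⟩ := exists_local_section g u (hsh u)
    obtain ⟨V', hV', s', hs', hsu', _⟩ := exists_local_section g u' (hsh u')
    have hη : genericPoint X ∈ V := ((genericPoint_spec X).mem_open_set_iff V.2).2 ⟨g u, trivial, hV⟩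
    have hη' : genericPoint X ∈ V' := ((genericPoint_spec X).mem_open_set_iff V'.2).2 ⟨g u', trivial, hV'⟩
    refine Subtype.ext ?_
    show u = u'
    refine hsu.symm.trans ((sections_eq g s s' hs hs' hη hη' ?_ (g u) hV (e' ▸ hV')).trans ?_)
    · rw [section_generic g hξ s hs hV hsu hξu hη, section_generic g hξ s' hs' hV' hsu' hξu' hη']
    · exact (congrArg s' (Subtype.ext e')).trans hsu'
  have hopen : IsOpenMap (W.ι ≫ g) := (W.ι ≫ g).isOpenMap
  haveI : ∀ w, IsIso ((W.ι ≫ g).stalkMap w) := fun w => by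
    haveI := isIso_stalkMap g (W.ι w) (hsh _)
    haveI : IsOpenImmersion W.ι := inferInstance
    rw [Scheme.Hom.stalkMap_comp]
    exact IsIso.comp_isIso' (isIso_stalkMap g (W.ι w) (hsh _)) inferInstance
  exact IsOpenImmersion.of_isIso_stalkMap _
    (Topology.IsOpenEmbedding.of_continuous_injective_isOpenMap (W.ι ≫ g).continuous hinj hopen)

end Groth.L27.NormalSepClosed
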