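import Groth.Agent.L27.EtSite.Points
import Groth.Agent.L27.EtSite.Common
import Groth.Prelude.Def_EtCore
import Mathlib.CategoryTheory.Sites.LocallyBijective
import Mathlib.AlgebraicGeometry.Morphisms.Etale
import Mathlib.AlgebraicGeometry.Morphisms.UniversallyOpen

/-! # Sections of constant etale sheaves -/

universe u

open CategoryTheory CategoryTheory.Limits AlgebraicGeometry Opposite TopologicalSpace

set_option backward.isDefEq.respectTransparency.types false
set_option linter.style.haveILetI false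

namespace Groth.L27.ConstSect

variable {X : Scheme.{u}} (A : AddCommGrpCat.{u + 1})

/-- The constant sheaf. -/
noncomputable abbrev K (X : Scheme.{u}) : EtCoh.Ab X :=
  (constantSheaf X.smallEtaleTopology AddCommGrpCat.{u + 1}).obj A

/-- The constant section. -/
noncomputable def cst (U : X.Etale) : A →+ (K A X).obj.obj (op U) :=
  ((toSheafify X.smallEtaleTopology ((Functor.const _).obj A)).app (op U)).hom

theorem map_cst {U V : X.Etale} (g : V ⟶ U) (a : A) :
    (K A X).obj.map g.op (cst A U a) = cst A V a :=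
  (NatTrans.naturality_apply (toSheafify X.smallEtaleTopology ((Functor.const _).obj A)) g.op a).symm

theorem eq_of_isEmpty (F : EtCoh.Ab X) (U : X.Etale) [IsEmpty U.left] (s t : F.obj.obj (op U)) : s = t :=
  EtSite.ext_of_locally F fun x => isEmptyElim x

theorem exists_locally_cst {U : X.Etale} (s : (K A X).obj.obj (op U)) (x : U.left) :
    ∃ (W : X.Etale) (g : W ⟶ U) (w : W.left) (a : A),
      g.left.base w = x ∧ (K A X).obj.map g.op s = cst A W a := by
  obtain ⟨W, g, w, ⟨a, ha⟩, hw⟩ := (EtSite.mem_topology_iff _).1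
    (Presheaf.imageSieve_mem X.smallEtaleTopology (toSheafify X.smallEtaleTopology ((Functor.const _).obj A)) s) x
  exact ⟨W, g, w, a, hw, ha.symm⟩

theorem cst_injective (U : X.Etale) [h : Nonempty U.left] : Function.Injective (cst A U) := by
  intro a b hab
  obtain ⟨W, g, w, hg, -⟩ := (EtSite.mem_topology_iff _).1
    (Presheaf.equalizerSieve_mem X.smallEtaleTopology (toSheafify X.smallEtaleTopology ((Functor.const _).obj A))
      (X := op U) a b hab) h.some
  exact hg

theorem exists_eq_cst (U : X.Etale) [h : Nonempty U.left] [PreirreducibleSpace U.left]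
    (s : (K A X).obj.obj (op U)) : ∃ a, s = cst A U a := by
  obtain ⟨W₀, g₀, w₀, a₀, -, e₀⟩ := exists_locally_cst A s h.some
  refine ⟨a₀, EtSite.ext_of_locally (K A X) fun x => ?_⟩
  obtain ⟨W, g, w, a, hw, e⟩ := exists_locally_cst A s x
  haveI : AlgebraicGeometry.Etale g.left := EtSite.etale_left g
  haveI : AlgebraicGeometry.Etale g₀.left := EtSite.etale_left g₀
  obtain ⟨z, -, ⟨v, hv⟩, ⟨v₀, hv₀⟩⟩ := PreirreducibleSpace.isPreirreducible_univ (X := U.left) _ _
    g.left.isOpenMap.isOpen_range g₀.left.isOpenMap.isOpen_range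
    ⟨_, trivial, w, hw⟩ ⟨_, trivial, w₀, rfl⟩
  obtain ⟨T, p, q, t, -, -, hpq⟩ := EtSite.exists_common g g₀ v v₀ (hv.trans hv₀.symm)
  haveI : Nonempty T.left := ⟨t⟩
  have ha : a = a₀ := by
    refine cst_injective A T ?_
    rw [← map_cst A p a, ← e, ← map_cst A q a₀, ← e₀, ← Functor.map_comp_apply, ← Functor.map_comp_apply,
      ← op_comp, ← op_comp, hpq]
  exact ⟨W, g, w, hw, by rw [e, map_cst, ha]⟩

variable {Y : Scheme.{u}} (f : Y ⟶ X)

/-- The canonical map from the constant sheaf to the direct image of the constant sheaf. -/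
noncomputable def cmp : K A X ⟶ (EtCoh.push f).obj (K A Y) :=
  (EtCoh.pullPushAdj f).unit.app (K A X) ≫ (EtCoh.push f).map ((EtCore.pullConstIso f).hom.app A)

theorem cmp_top (a : A) :
    (cmp A f).hom.app (op (EtCoh.top X)) (cst A (EtCoh.top X) a) =
      cst A ((EtCoh.bc f).obj (EtCoh.top X)) a := by
  have h := Adjunction.homEquiv_leftAdjointUniq_hom_app
    (((EtCore.constAdj X).comp (EtCoh.pullPushAdj f)).ofNatIsoRight (EtCore.pushGsecIso f)) (EtCore.constAdj Y) A
  have h' : (K A Y).obj.map (EtCore.bcTopIso f).inv.op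
      ((cmp A f).hom.app (op (EtCoh.top X)) (cst A (EtCoh.top X) a)) = cst A (EtCoh.top Y) a := by
    simp only [Adjunction.homEquiv_unit, Adjunction.ofNatIsoRight] at h
    rw [NatTrans.comp_app, Functor.whiskerLeft_app, Adjunction.comp_unit_app, Category.assoc,
      ← (EtCore.pushGsecIso f).hom.naturality] at h
    exact ConcreteCategory.congr_hom h a
  have h2 := congrArg ((K A Y).obj.map (EtCore.bcTopIso f).hom.op) h'
  rw [map_cst, ← Functor.map_comp_apply, ← op_comp, Iso.hom_inv_id, op_id,
    CategoryTheory.Functor.map_id, ConcreteCategory.id_apply] at h2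
  exact h2

theorem cmp_cst (U : X.Etale) (a : A) :
    (cmp A f).hom.app (op U) (cst A U a) = cst A ((EtCoh.bc f).obj U) a := by
  rw [← map_cst A ((EtCore.topIsTerminal X).from U) a, NatTrans.naturality_apply, cmp_top]
  exact map_cst A ((EtCoh.bc f).map ((EtCore.topIsTerminal X).from U)) a

/-- The comparison is an isomorphism when base change preserves nonemptiness and sections are locally constant. -/
theorem isIso_cmp_of_local (hne : ∀ U : X.Etale, Nonempty U.left → Nonempty ((EtCoh.bc f).obj U).left)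
    (hloc : ∀ (U : X.Etale) (t : (K A Y).obj.obj (op ((EtCoh.bc f).obj U))) (x : U.left),
      ∃ (W : X.Etale) (g : W ⟶ U) (w : W.left) (a : A), g.left.base w = x ∧
        (K A Y).obj.map ((EtCoh.bc f).map g).op t = cst A ((EtCoh.bc f).obj W) a) : IsIso (cmp A f) := by
  refine Sheaf.isLocallyBijective_iff_isIso (cmp A f) |>.1 ⟨⟨fun {V} s t hst => ?_⟩, ⟨fun {V} t => ?_⟩⟩
  · refine (EtSite.mem_topology_iff _).2 fun x => ?_
    obtain ⟨W, g, w, a, hw, e⟩ := exists_locally_cst A (s - t) x
    haveI : Nonempty W.left := ⟨w⟩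
    haveI := hne W inferInstance
    have h0 : cst A ((EtCoh.bc f).obj W) a = 0 := by
      rw [← cmp_cst, ← e, NatTrans.naturality_apply, map_sub, hst, sub_self, map_zero]
      rfl
    have ha : a = 0 := cst_injective A _ (h0.trans (map_zero (cst A ((EtCoh.bc f).obj W))).symm)
    refine ⟨W, g, w, ?_, hw⟩
    show (K A X).obj.map g.op s = (K A X).obj.map g.op t
    rw [← sub_eq_zero, ← map_sub]
    exact e.trans (by rw [ha, map_zero])
  · refine (EtSite.mem_topology_iff _).2 fun x => ?_
    obtain ⟨W, g, w, a, hw, ha⟩ := hloc V t x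
    exact ⟨W, g, w, ⟨cst A W a, (cmp_cst A f W a).trans ha.symm⟩, hw⟩

/-- The comparison is an isomorphism when base change preserves nonemptiness and is locally irreducible. -/
theorem isIso_cmp (hne : ∀ U : X.Etale, Nonempty U.left → Nonempty ((EtCoh.bc f).obj U).left)
    (hirr : ∀ (U : X.Etale) (x : U.left), ∃ (W : X.Etale) (g : W ⟶ U) (w : W.left),
      g.left.base w = x ∧ PreirreducibleSpace ((EtCoh.bc f).obj W).left) : IsIso (cmp A f) := by
  refine isIso_cmp_of_local A f hne fun U t x => ?_
  obtain ⟨W, g, w, hw, hW⟩ := hirr U x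
  haveI := hne W ⟨w⟩
  obtain ⟨a, ha⟩ := exists_eq_cst A ((EtCoh.bc f).obj W) ((K A Y).obj.map ((EtCoh.bc f).map g).op t)
  exact ⟨W, g, w, a, hw, ha⟩

theorem isIso_unit_of_isIso_cmp [IsIso (cmp A f)] :
    IsIso ((EtCoh.pullPushAdj f).unit.app (K A X)) := by
  have : (EtCoh.pullPushAdj f).unit.app (K A X) =
      cmp A f ≫ (EtCoh.push f).map ((EtCore.pullConstIso f).inv.app A) := by
    rw [cmp, Category.assoc, ← Functor.map_comp, Iso.hom_inv_id_app]
    exact ((congrArg (_ ≫ ·) ((EtCoh.push f).map_id _)).trans (Category.comp_id _)).symm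
  rw [this]
  infer_instance

end Groth.L27.ConstSect
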