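import Groth.Agent.L27.NormalSepClosed.Scheme
import Groth.Agent.L27.NormalSepClosed.ConstSect
import Mathlib.AlgebraicGeometry.PullbackCarrier
import Mathlib.AlgebraicGeometry.Morphisms.Preimmersion

/-! # Constant sheaves on normal schemes -/

universe u

open CategoryTheory CategoryTheory.Limits AlgebraicGeometry Opposite TopologicalSpace

set_option backward.isDefEq.respectTransparency.types false
set_option linter.style.haveILetI false
set_option linter.unusedSectionVars false

namespace Groth.L27.NormalSepClosed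

variable {X : Scheme.{u}} [IsIntegral X]

theorem range_bc_fst {Y : Scheme.{u}} (f : Y ⟶ X) (U : X.Etale) :
    Set.range (pullback.fst U.hom f) = U.hom ⁻¹' Set.range f :=
  Scheme.Pullback.range_fst U.hom f

theorem nonempty_bc {Y : Scheme.{u}} (f : Y ⟶ X) (hf : genericPoint X ∈ Set.range f) (U : X.Etale)
    (h : Nonempty U.left) : Nonempty ((EtCoh.bc f).obj U).left := by
  haveI : Etale U.hom := U.prop
  obtain ⟨ξ, hξ, -⟩ := exists_generic (X := X) U.hom h.some
  obtain ⟨z, -⟩ : ξ ∈ Set.range (pullback.fst U.hom f) := by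
    rw [range_bc_fst]
    show U.hom ξ ∈ Set.range f
    rw [hξ]
    exact hf
  exact ⟨z⟩

variable (hN : ∀ x : X, IsIntegrallyClosed (X.presheaf.stalk x))
include hN

theorem exists_irreducible_nbhd (U : X.Etale) (x : U.left) :
    ∃ (W : X.Etale) (g : W ⟶ U) (w : W.left), g.left.base w = x ∧ PreirreducibleSpace W.left ∧
      ∀ a b : W.left, W.hom a = genericPoint X → W.hom b = genericPoint X → a = b := by
  haveI : Etale U.hom := U.prop
  obtain ⟨ξ, hξ, hx⟩ := exists_generic (X := X) U.hom x
  let O : U.left.Opens := ⟨closure {ξ}, isOpen_closure (X := X) U.hom hN hξ⟩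
  have hirr : PreirreducibleSpace O :=
    Subtype.preirreducibleSpace isIrreducible_singleton.closure.isPreirreducible
  refine ⟨Scheme.Etale.mk (Scheme.Opens.ι O ≫ U.hom), MorphismProperty.Over.homMk (Scheme.Opens.ι O) rfl,
    ⟨x, specializes_iff_mem_closure.1 hx⟩, rfl, hirr, ?_⟩
  rintro ⟨a, ha⟩ ⟨b, hb⟩ h1 h2
  refine Subtype.ext ?_
  exact (eq_of_specializes (X := X) U.hom h1 (specializes_iff_mem_closure.2 ha)).symm.trans
    (eq_of_specializes (X := X) U.hom h2 (specializes_iff_mem_closure.2 hb))

theorem isIso_cmp_point (A : AddCommGrpCat.{u + 1}) {Y : Scheme.{u}} (f : Y ⟶ X) [IsPreimmersion f]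
    (hrange : Set.range f = {genericPoint X}) : IsIso (ConstSect.cmp A f) := by
  refine ConstSect.isIso_cmp A f (nonempty_bc f (hrange.symm.subset rfl)) fun U x => ?_
  obtain ⟨W, g, w, hw, -, huniq⟩ := exists_irreducible_nbhd hN U x
  refine ⟨W, g, w, hw, ?_⟩
  haveI : IsPreimmersion (pullback.fst W.hom f) :=
    MorphismProperty.pullback_fst (P := @IsPreimmersion) W.hom f inferInstance
  have hp : ∀ z : (pullback W.hom f : Scheme.{u}), W.hom (pullback.fst W.hom f z) = genericPoint X := fun z => by
    have : pullback.fst W.hom f z ∈ W.hom ⁻¹' Set.range f := range_bc_fst f W ▸ ⟨z, rfl⟩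
    rw [hrange] at this
    exact this
  haveI : Subsingleton ((EtCoh.bc f).obj W).left :=
    ⟨fun z z' => (pullback.fst W.hom f).isEmbedding.injective (huniq _ _ (hp z) (hp z'))⟩
  exact ⟨(Set.subsingleton_univ).isPreirreducible⟩

theorem isIso_cmp_generic (A : AddCommGrpCat.{u + 1}) :
    IsIso (ConstSect.cmp A (X.fromSpecStalk (genericPoint X))) := by
  refine isIso_cmp_point hN A _ ?_
  rw [Scheme.range_fromSpecStalk]
  ext y
  exact ⟨fun h => (h.antisymm ((genericPoint_spec X).specializes (Set.mem_univ _))).eq, fun h => h ▸ specializes_rfl⟩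

theorem isIso_cmp_open (A : AddCommGrpCat.{u + 1}) (V : X.Opens) (hV : (V : Set X).Nonempty) :
    IsIso (ConstSect.cmp A V.ι) := by
  have hη : genericPoint X ∈ Set.range V.ι := by
    rw [Scheme.Opens.range_ι]
    exact ((genericPoint_spec X).mem_open_set_iff V.2).2 (by simpa using hV)
  refine ConstSect.isIso_cmp A V.ι (nonempty_bc V.ι hη) fun U x => ?_
  obtain ⟨W, g, w, hw, hirr, -⟩ := exists_irreducible_nbhd hN U x
  refine ⟨W, g, w, hw, ⟨?_⟩⟩
  haveI : IsOpenImmersion (pullback.fst W.hom V.ι) := inferInstance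
  have := (hirr.isPreirreducible_univ).preimage (pullback.fst W.hom V.ι).isOpenEmbedding
  rwa [Set.preimage_univ] at this

end Groth.L27.NormalSepClosed
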