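import Groth.Agent.L27.NormalSepClosed.Scheme
import Mathlib.AlgebraicGeometry.Limits

/-! # Separated etale schemes over normal schemes with separably closed function field -/

universe u

open CategoryTheory CategoryTheory.Limits AlgebraicGeometry Opposite TopologicalSpace

set_option backward.isDefEq.respectTransparency.types false
set_option linter.style.haveILetI false
set_option linter.unusedSectionVars false

namespace Groth.L27.NormalSepClosed

variable {U X : Scheme.{u}} [IsIntegral X] (g : U ⟶ X) [Etale g]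
  (hN : ∀ x : X, IsIntegrallyClosed (X.presheaf.stalk x))

/-- The branch through a point over the generic point. -/
noncomputable def branch (ξ : {ξ : U // g ξ = genericPoint X}) : U.Opens :=
  ⟨closure {ξ.1}, isOpen_closure g hN ξ.2⟩

theorem mem_branch_iff {ξ : {ξ : U // g ξ = genericPoint X}} {u : U} : u ∈ branch g hN ξ ↔ ξ.1 ⤳ u :=
  specializes_iff_mem_closure.symm

theorem exists_decomposition [IsSepClosed X.functionField] [IsSeparated g]
    (hN : ∀ x : X, IsIntegrallyClosed (X.presheaf.stalk x)) :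
    ∃ (ι : Type u) (V : ι → X.Opens) (e : (∐ fun i => (V i : Scheme.{u})) ≅ U),
      ∀ i, Sigma.ι (fun i => (V i : Scheme.{u})) i ≫ e.hom ≫ g = (V i).ι := by
  let κ := {ξ : U // g ξ = genericPoint X}
  haveI : ∀ ξ : κ, IsOpenImmersion ((branch g hN ξ).ι ≫ g) := fun ξ => isOpenImmersion_branch g hN ξ.2
  let V : κ → X.Opens := fun ξ => ((branch g hN ξ).ι ≫ g).opensRange
  let inc : ∀ ξ : κ, (V ξ : Scheme.{u}) ⟶ U := fun ξ =>
    ((branch g hN ξ).ι ≫ g).isoOpensRange.inv ≫ (branch g hN ξ).ι
  have hr : ∀ ξ : κ, (inc ξ).opensRange = branch g hN ξ := fun ξ =>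
    ((Scheme.Hom.opensRange_comp_of_isIso _ _).trans (Scheme.Opens.opensRange_ι _))
  obtain ⟨hc⟩ : Nonempty (IsColimit (Cofan.mk U inc)) := by
    refine nonempty_isColimit_cofanMk_of inc ?_ ?_
    · refine eq_top_iff.2 fun u _ => ?_
      obtain ⟨ξ, hξ, hξu⟩ := exists_generic g u
      refine Opens.mem_iSup.2 ⟨⟨ξ, hξ⟩, ?_⟩
      rw [hr]
      exact (mem_branch_iff g hN).2 hξu
    · intro ξ ξ' hne
      simp only [Function.onFun]
      rw [hr, hr, disjoint_iff, eq_bot_iff]
      intro u hu
      exact hne (Subtype.ext (generic_unique g hN ξ.2 ((mem_branch_iff g hN).1 hu.1) ξ'.2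
        ((mem_branch_iff g hN).1 hu.2)))
  refine ⟨κ, V, (colimit.isColimit _).coconePointUniqueUpToIso hc, fun ξ => ?_⟩
  refine ((Category.assoc _ _ _).symm.trans
    (congrArg (· ≫ g) (IsColimit.comp_coconePointUniqueUpToIso_hom (colimit.isColimit _) hc ⟨ξ⟩))).trans ?_
  show (((branch g hN ξ).ι ≫ g).isoOpensRange.inv ≫ (branch g hN ξ).ι) ≫ g = _
  rw [Category.assoc, Scheme.Hom.isoOpensRange_inv_comp]

end Groth.L27.NormalSepClosed
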