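import Groth.Agent.L27.EtZar.Flasque
import Groth.Agent.L27.NormalSepClosed.Decomp
import Groth.Agent.L27.NormalSepClosed.ConstSect
import Groth.Agent.L00.RDerLES
import Mathlib.CategoryTheory.Abelian.GrothendieckCategory.EnoughInjectives

/-! # Higher direct images from normal schemes with separably closed function field -/

universe u

open CategoryTheory CategoryTheory.Limits AlgebraicGeometry Opposite TopologicalSpace

set_option backward.isDefEq.respectTransparency.types false
set_option linter.style.haveILetI false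
set_option linter.unusedSectionVars false

namespace Groth.L27.NormalSepClosed

variable {X : Scheme.{u}} [IsIntegral X] (hN : ∀ x : X, IsIntegrallyClosed (X.presheaf.stalk x))
  [IsSepClosed X.functionField]
include hN

theorem hSH (x : X) : EtCoh.IsStrictlyHenselianLocalRing (X.presheaf.stalk x) := by
  haveI := hN x
  exact isStrictlyHenselian X.functionField

omit hN in
theorem flasque_const (A : AddCommGrpCat.{u + 1}) : EtFlasque.Flasque (ConstSect.K A X) := by
  intro V W h y
  rcases isEmpty_or_nonempty (MV.oE V).left with hV | hV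
  · exact ⟨0, ConstSect.eq_of_isEmpty _ _ _ _⟩
  · haveI : PreirreducibleSpace (MV.oE V).left :=
      ⟨by
        have h := (PreirreducibleSpace.isPreirreducible_univ (X := X)).preimage (Scheme.Opens.ι V).isOpenEmbedding
        rw [Set.preimage_univ] at h
        exact h⟩
    obtain ⟨a, rfl⟩ := ConstSect.exists_eq_cst A (MV.oE V) y
    exact ⟨ConstSect.cst A (MV.oE W) a, ConstSect.map_cst A _ a⟩

/-- Sections over separated etale schemes lift along epimorphisms with flasque kernel. -/
theorem exists_lift_separated {S : ShortComplex (EtCoh.Ab X)} (hSE : S.ShortExact)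
    (hF : EtFlasque.Flasque S.X₁) (U : X.Etale) [IsSeparated U.hom] (s : S.X₃.obj.obj (op U)) :
    ∃ t : S.X₂.obj.obj (op U), S.g.hom.app (op U) t = s := by
  haveI : Etale U.hom := U.prop
  let κ := {ξ : U.left // U.hom ξ = genericPoint X}
  let B : κ → U.left.Opens := branch (X := X) U.hom hN
  haveI : ∀ ξ : κ, IsOpenImmersion ((B ξ).ι ≫ U.hom) := fun ξ =>
    isOpenImmersion_branch (X := X) U.hom hN ξ.2
  let W : κ → X.Opens := fun ξ => ((B ξ).ι ≫ U.hom).opensRange
  let e : ∀ ξ : κ, MV.oE (W ξ) ⟶ U := fun ξ => MorphismProperty.Over.homMk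
    (((B ξ).ι ≫ U.hom).isoOpensRange.inv ≫ (B ξ).ι)
    ((Category.assoc _ _ _).trans (Scheme.Hom.isoOpensRange_inv_comp _))
  have hr : ∀ ξ : κ, Set.range (e ξ).left = (B ξ : Set U.left) := fun ξ => by
    show Set.range (((B ξ).ι ≫ U.hom).isoOpensRange.inv ≫ (B ξ).ι) = _
    rw [Scheme.Hom.comp_base, TopCat.coe_comp, Set.range_comp,
      Set.range_eq_univ.mpr (((B ξ).ι ≫ U.hom).isoOpensRange.inv).surjective, Set.image_univ,
      Scheme.Opens.range_ι]
  choose y hy using fun ξ => EtFlasque.exists_lift (hSH hN) hSE hF (W ξ) (S.X₃.obj.map (e ξ).op s)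
  let H := (sheafCompose X.smallEtaleTopology (forget AddCommGrpCat.{u + 1})).obj S.X₂
  have hmem : Sieve.generate (Presieve.ofArrows (fun ξ => MV.oE (W ξ)) e) ∈ X.smallEtaleTopology U :=
    (EtSite.mem_topology_iff _).2 fun x => by
      obtain ⟨ξ, hξ, hx⟩ := exists_generic (X := X) U.hom x
      obtain ⟨w, hw⟩ : x ∈ Set.range (e ⟨ξ, hξ⟩).left := by
        rw [hr]
        exact (mem_branch_iff (X := X) U.hom hN).2 hx
      exact ⟨_, e ⟨ξ, hξ⟩, w, ⟨_, 𝟙 _, e ⟨ξ, hξ⟩, ⟨_⟩, Category.id_comp _⟩, hw⟩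
  have hcompat : Presieve.Arrows.Compatible H.obj e y := by
    intro i j Z gi gj hij
    by_cases h : i = j
    · subst h
      rw [MV.hom_oE_subsingleton gi gj]
    · haveI : IsEmpty Z.left := ⟨fun z => by
        have h1 : (e i).left (gi.left z) = (e j).left (gj.left z) :=
          congrArg (fun m : Z ⟶ U => m.left z) hij
        have hi : (e i).left (gi.left z) ∈ (B i : Set U.left) := (hr i).subset ⟨_, rfl⟩
        have hj : (e i).left (gi.left z) ∈ (B j : Set U.left) := h1 ▸ (hr j).subset ⟨_, rfl⟩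
        exact h (Subtype.ext (generic_unique (X := X) U.hom hN i.2 ((mem_branch_iff (X := X) U.hom hN).1 hi)
          j.2 ((mem_branch_iff (X := X) U.hom hN).1 hj)))⟩
      exact EtSite.ext_of_locally S.X₂ fun x => isEmptyElim x
  obtain ⟨t, ht, -⟩ := ((Presieve.isSheafFor_arrows_iff _ _).mp
    ((Presieve.isSheafFor_iff_generate _).mpr
      ((isSheaf_iff_isSheaf_of_type _ _).1 H.property _ hmem))) y hcompat
  refine ⟨t, EtSite.ext_of_locally S.X₃ fun x => ?_⟩
  obtain ⟨ξ, hξ, hx⟩ := exists_generic (X := X) U.hom x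
  obtain ⟨w, hw⟩ : x ∈ Set.range (e ⟨ξ, hξ⟩).left := by
    rw [hr]
    exact (mem_branch_iff (X := X) U.hom hN).2 hx
  refine ⟨_, e ⟨ξ, hξ⟩, w, hw, ?_⟩
  rw [← NatTrans.naturality_apply S.g.hom, show S.X₂.obj.map (e ⟨ξ, hξ⟩).op t = y ⟨ξ, hξ⟩ from ht _]
  exact hy _

variable {Y : Scheme.{u}} (f : X ⟶ Y)

theorem epi_push_map {S : ShortComplex (EtCoh.Ab X)} (hSE : S.ShortExact) (hF : EtFlasque.Flasque S.X₁) :
    Epi ((EtCoh.push f).map S.g) := by
  refine (Sheaf.isLocallySurjective_iff_epi' (φ := (EtCoh.push f).map S.g)).1 ⟨fun {V} s => ?_⟩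
  refine (EtSite.mem_topology_iff _).2 fun x => ?_
  obtain ⟨_, ⟨(B : Y.Opens), hB, rfl⟩, hxB, -⟩ :=
    Y.isBasis_affineOpens.exists_subset_of_mem_open (Set.mem_univ (V.hom x)) isOpen_univ
  obtain ⟨_, ⟨(A : V.left.Opens), hA, rfl⟩, hxA, hAB⟩ :=
    V.left.isBasis_affineOpens.exists_subset_of_mem_open (show x ∈ ((V.hom ⁻¹ᵁ B : V.left.Opens) : Set V.left) from hxB)
      (V.hom ⁻¹ᵁ B).2
  haveI : Etale V.hom := V.prop
  let V' : Y.Etale := Scheme.Etale.mk (A.ι ≫ V.hom)
  let g : V' ⟶ V := MorphismProperty.Over.homMk A.ι rfl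
  haveI : IsSeparated V'.hom := by
    haveI : IsAffine (A : Scheme.{u}) := hA
    haveI : IsAffine (B : Scheme.{u}) := hB
    show IsSeparated (A.ι ≫ V.hom)
    rw [← V.hom.resLE_comp_ι (U := B) (V := A) hAB]
    infer_instance
  haveI : IsSeparated ((EtCoh.bc f).obj V').hom :=
    MorphismProperty.pullback_snd (P := @IsSeparated) V'.hom f inferInstance
  obtain ⟨t, ht⟩ := exists_lift_separated hN hSE hF ((EtCoh.bc f).obj V')
    (((EtCoh.push f).obj S.X₃).obj.map g.op s)
  exact ⟨V', g, ⟨x, hxA⟩, ⟨t, ht⟩, rfl⟩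

theorem isZero_rightDerived : ∀ (q : ℕ) (F : EtCoh.Ab X), EtFlasque.Flasque F →
    IsZero ((EtCoh.Rpush f (q + 1)).obj F) := by
  haveI : PreservesLimitsOfSize.{0, 0} (EtCoh.push f) := (EtCoh.pullPushAdj f).rightAdjoint_preservesLimits
  haveI : PreservesFiniteLimits (EtCoh.push f) := PreservesLimitsOfSize.preservesFiniteLimits _
  letI := HasDerivedCategory.standard (EtCoh.Ab X)
  intro q
  induction q with
  | zero =>
    intro F hF
    let S : ShortComplex (EtCoh.Ab X) :=
      ShortComplex.mk (Injective.ι F) (cokernel.π (Injective.ι F)) (cokernel.condition _)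
    have hS : S.ShortExact := { exact := ShortComplex.exact_of_g_is_cokernel _ (cokernelIsCokernel _) }
    haveI : Epi (((EtCoh.push f).rightDerived 0).map S.g) := by
      haveI := epi_push_map hN f hS hF
      rw [← NatIso.naturality_2 (EtCoh.push f).rightDerivedZeroIsoSelf S.g]
      infer_instance
    exact Groth.L00.RDerLES.isZero_X₁ (EtCoh.push f) hS 0
      ((EtCoh.push f).isZero_rightDerived_obj_injective_succ 0 (Injective.under F))
  | succ q ih =>
    intro F hF
    let S : ShortComplex (EtCoh.Ab X) :=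
      ShortComplex.mk (Injective.ι F) (cokernel.π (Injective.ι F)) (cokernel.condition _)
    have hS : S.ShortExact := { exact := ShortComplex.exact_of_g_is_cokernel _ (cokernelIsCokernel _) }
    have hI : EtFlasque.Flasque S.X₂ := EtFlasque.flasque_of_injective (Injective.under F)
    haveI : Epi (((EtCoh.push f).rightDerived (q + 1)).map S.g) :=
      ⟨fun a b _ => (ih S.X₃ (EtFlasque.flasque_X₃ (hSH hN) hS hF hI)).eq_of_src a b⟩
    exact Groth.L00.RDerLES.isZero_X₁ (EtCoh.push f) hS (q + 1)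
      ((EtCoh.push f).isZero_rightDerived_obj_injective_succ (q + 1) (Injective.under F))

end Groth.L27.NormalSepClosed
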