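import Groth.Agent.S0092
import Groth.Agent.S0646
import Groth.Agent.L27.EtSite.ClosedCover
import Groth.Agent.L27.NormalSepClosed.Acyclic
import Groth.Agent.L27.EtZar.Flasque
import Groth.Agent.L28.AcyComp.Iso
import Groth.Agent.L28.EtTrace.Field
import Groth.Agent.L13.LocalPair.Hens
import Groth.Agent.L27.StrictCover
import Mathlib.AlgebraicGeometry.Morphisms.ClosedImmersion
import Mathlib.Algebra.Category.Ring.FilteredColimits
import Mathlib.Algebra.Category.Ring.Colimits
import Mathlib.CategoryTheory.Limits.Types.Filtered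
import Mathlib.RingTheory.Ideal.Quotient.Operations

/-! # Constant sheaves on closed subschemes of normal schemes with separably closed function field -/

universe u

open CategoryTheory CategoryTheory.Limits AlgebraicGeometry Opposite TopologicalSpace

set_option backward.isDefEq.respectTransparency.types false
set_option linter.style.haveILetI false
set_option linter.unusedSectionVars false

namespace Groth.L27.ClosedAcyclic

open LimCoh

theorem exists_lift_top {Z : Scheme.{u}} (hS : ∀ z : Z, EtCoh.IsStrictlyHenselianLocalRing (Z.presheaf.stalk z))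
    {S : ShortComplex (EtCoh.Ab Z)} (hSE : S.ShortExact) (hF : EtFlasque.Flasque S.X₁)
    (s : S.X₃.obj.obj (op (EtCoh.top Z))) :
    ∃ t : S.X₂.obj.obj (op (EtCoh.top Z)), S.g.hom.app (op (EtCoh.top Z)) t = s := by
  obtain ⟨t, ht⟩ := EtFlasque.exists_lift hS hSE hF ⊤ (S.X₃.obj.map (MV.oTop ⊤).op s)
  let k : EtCoh.top Z ⟶ MV.oE (⊤ : Z.Opens) :=
    MorphismProperty.Over.homMk (Scheme.topIso Z).inv (Iso.inv_hom_id (Scheme.topIso Z))
  have hk : k ≫ MV.oTop ⊤ = 𝟙 (EtCoh.top Z) := (EtCore.topIsTerminal Z).hom_ext _ _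
  refine ⟨S.X₂.obj.map k.op t, ?_⟩
  rw [NatTrans.naturality_apply, ht, ← Functor.map_comp_apply, ← op_comp, hk]
  simp

theorem subsingleton_H_of_flasque {Z : Scheme.{u}}
    (hS : ∀ z : Z, EtCoh.IsStrictlyHenselianLocalRing (Z.presheaf.stalk z)) :
    ∀ (n : ℕ) (F : EtCoh.Ab Z), EtFlasque.Flasque F → Subsingleton (EtCoh.H Z F (n + 1)) := by
  intro n
  induction n with
  | zero =>
    intro F hF
    refine subsingleton_of_forall_eq 0 fun x => ?_
    let S : ShortComplex (EtCoh.Ab Z) :=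
      ShortComplex.mk (Injective.ι F) (cokernel.π (Injective.ι F)) (cokernel.condition _)
    have hSE : S.ShortExact := { exact := ShortComplex.exact_of_g_is_cokernel _ (cokernelIsCokernel _) }
    obtain ⟨y, rfl⟩ := exists_δH hSE 0 x (eq_zero_of_injective (Injective.under F) 0 _)
    obtain ⟨t, ht⟩ := exists_lift_top hS hSE hF (secEq S.X₃ y)
    have hy : y = (EtCoh.HF Z 0).map S.g ((secEq S.X₂).symm t) := (secEq S.X₃).injective (by
      rw [secEq_map, AddEquiv.apply_symm_apply]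
      exact ht.symm)
    rw [hy]
    exact δH_map_g hSE 0 _
  | succ n ih =>
    intro F hF
    refine subsingleton_of_forall_eq 0 fun x => ?_
    let S : ShortComplex (EtCoh.Ab Z) :=
      ShortComplex.mk (Injective.ι F) (cokernel.π (Injective.ι F)) (cokernel.condition _)
    have hSE : S.ShortExact := { exact := ShortComplex.exact_of_g_is_cokernel _ (cokernelIsCokernel _) }
    obtain ⟨y, rfl⟩ := exists_δH hSE (n + 1) x (eq_zero_of_injective (Injective.under F) (n + 1) _)
    haveI := ih S.X₃ (EtFlasque.flasque_X₃ hS hSE hF (EtFlasque.flasque_of_injective (Injective.under F)))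
    exact (congrArg (δH hSE (n + 1)) (Subsingleton.elim y 0)).trans (map_zero _)

theorem subsingleton_H_of_isEmpty {Z : Scheme.{u}} [IsEmpty Z] (F : EtCoh.Ab Z) (n : ℕ) :
    Subsingleton (EtCoh.H Z F n) := by
  have h : IsZero F := EtSite.isZero_of_stalks F fun x => isEmptyElim x
  exact subsingleton_of_forall_eq 0 fun x => by
    have := congrArg (fun φ => (EtCoh.HF Z n).map φ x) (h.eq_of_src (𝟙 F) 0)
    simp only [EtSite.HF_map_apply, Abelian.Ext.mk₀_zero, Abelian.Ext.comp_mk₀_id] at this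
    exact this.trans (Abelian.Ext.comp_zero _ _ _ _ _)

theorem flasque_const {X : Scheme.{u}} [IrreducibleSpace X] (A : AddCommGrpCat.{u + 1}) :
    EtFlasque.Flasque (ConstSect.K A X) := by
  intro V W h y
  rcases isEmpty_or_nonempty (MV.oE V).left with hV | hV
  · exact ⟨0, ConstSect.eq_of_isEmpty _ _ _ _⟩
  · haveI : PreirreducibleSpace (MV.oE V).left :=
      ⟨by
        have h := (PreirreducibleSpace.isPreirreducible_univ (X := X)).preimage (Scheme.Opens.ι V).isOpenEmbedding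
        rw [Set.preimage_univ] at h
        exact h⟩
    obtain ⟨a, rfl⟩ := ConstSect.exists_eq_cst A (MV.oE V) y
    exact ⟨ConstSect.cst A (MV.oE W) a, ConstSect.map_cst A _ a⟩

variable {X : Scheme.{u}} [IsIntegral X] (hN : ∀ x : X, IsIntegrallyClosed (X.presheaf.stalk x))
  [IsSepClosed X.functionField] (M : Type) [AddCommGroup M]
include hN

theorem subsingleton_integral {Z : Scheme.{u}} [IsIntegral Z] (j : Z ⟶ X) [IsClosedImmersion j] (n : ℕ) :
    Subsingleton (EtCoh.H Z (EtCoh.const Z M) (n + 1)) := by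
  refine subsingleton_H_of_flasque (fun z => ?_) n _
    (flasque_const (X := Z) (AddCommGrpCat.of (ULift.{u + 1} M)))
  obtain ⟨hh, hsc⟩ := NormalSepClosed.hSH hN (j z)
  haveI := hh
  haveI := hsc
  let φ := (j.stalkMap z).hom
  have hsurj : Function.Surjective φ := j.stalkMap_surjective z
  haveI : (RingHom.ker φ).IsPrime := RingHom.ker_isPrime φ
  exact Groth.L27.StrictCover.strictlyHenselian_of_ringEquiv
    (RingHom.quotientKerEquivOfSurjective hsurj)
    (Groth.L13.LocalPair.isStrictlyHenselian_quotient (RingHom.ker φ))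

omit hN

section Chain

variable (B : CommRingCat.{u})

/-- The closed immersion cut out by an ideal. -/
noncomputable def q (I : Ideal B) : Spec (CommRingCat.of (B ⧸ I)) ⟶ Spec B :=
  Spec.map (CommRingCat.ofHom (Ideal.Quotient.mk I))

instance (I : Ideal B) : IsClosedImmersion (q B I) :=
  IsClosedImmersion.spec_of_surjective _ Ideal.Quotient.mk_surjective

/-- The inclusion of smaller closed subschemes. -/
noncomputable def fac {I J : Ideal B} (h : I ≤ J) :
    Spec (CommRingCat.of (B ⧸ J)) ⟶ Spec (CommRingCat.of (B ⧸ I)) :=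
  Spec.map (CommRingCat.ofHom (Ideal.Quotient.factor h))

instance {I J : Ideal B} (h : I ≤ J) : IsClosedImmersion (fac B h) :=
  IsClosedImmersion.spec_of_surjective _ (Ideal.Quotient.factor_surjective h)

theorem fac_q {I J : Ideal B} (h : I ≤ J) : fac B h ≫ q B I = q B J := by
  rw [fac, q, q, ← Spec.map_comp, ← CommRingCat.ofHom_comp, Ideal.Quotient.factor_comp_mk]

theorem range_q (I : Ideal B) : Set.range (q B I).base = PrimeSpectrum.zeroLocus (I : Set B) := by
  refine (range_comap_of_surjective _ (Ideal.Quotient.mk I) Ideal.Quotient.mk_surjective).trans ?_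
  rw [Ideal.mk_ker]

theorem mem_range_fac {I J : Ideal B} (h : I ≤ J) (x : Spec (CommRingCat.of (B ⧸ I))) :
    x ∈ Set.range (fac B h).base ↔ J ≤ ((q B I).base x).asIdeal := by
  have h1 : ∀ y, (q B J).base y = (q B I).base ((fac B h).base y) := fun y => by
    rw [← Scheme.Hom.comp_apply, fac_q]
  have h2 : (q B I).base x ∈ Set.range (q B J).base ↔ J ≤ ((q B I).base x).asIdeal := by
    rw [range_q]
    rfl
  rw [← h2]
  exact ⟨fun ⟨y, hy⟩ => ⟨y, by rw [h1, hy]⟩,
    fun ⟨y, hy⟩ => ⟨y, (q B I).isEmbedding.injective ((h1 y).symm.trans hy)⟩⟩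

variable (F : EtCoh.Ab (Spec B))

/-- The class does not die on the closed subscheme. -/
def Survives (n : ℕ) (ξ : EtCoh.H (Spec B) F n) (I : Ideal B) : Prop :=
  ∀ [PreservesFiniteLimits (EtCoh.pull (q B I))], EtCore.Hpull (q B I) F n ξ ≠ 0

theorem survives_bot (n : ℕ) (ξ : EtCoh.H (Spec B) F n) (hξ : ξ ≠ 0) : Survives B F n ξ ⊥ := by
  intro _ h
  haveI : IsIso (CommRingCat.ofHom (Ideal.Quotient.mk (⊥ : Ideal B))) :=
    (ConcreteCategory.isIso_iff_bijective _).2 ⟨fun a b hab => by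
      have h' : a - b ∈ (⊥ : Ideal B) := Ideal.Quotient.eq.1 hab
      exact sub_eq_zero.1 (Ideal.mem_bot.1 h'), Ideal.Quotient.mk_surjective⟩
  haveI : IsIso (q B ⊥) := inferInstanceAs (IsIso (Spec.map _))
  exact hξ ((Groth.L28.AcyComp.bijective_Hpull (q B ⊥) F n).1 (h.trans (map_zero _).symm))

/-- The diagram of quotients along a chain. -/
noncomputable def quotDiagram (c : Set (Ideal B)) : {I : Ideal B // I ∈ c} ⥤ CommRingCat.{u} where
  obj I := CommRingCat.of (B ⧸ I.1)
  map {I J} h := CommRingCat.ofHom (Ideal.Quotient.factor (show I.1 ≤ J.1 from leOfHom h))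
  map_id I := CommRingCat.hom_ext (Ideal.Quotient.ringHom_ext (RingHom.ext fun _ => rfl))
  map_comp _ _ := CommRingCat.hom_ext (Ideal.Quotient.ringHom_ext (RingHom.ext fun _ => rfl))

/-- The quotient by the supremum as a cocone. -/
noncomputable def quotCocone (c : Set (Ideal B)) : Cocone (quotDiagram B c) where
  pt := CommRingCat.of (B ⧸ sSup c)
  ι :=
    { app := fun I => CommRingCat.ofHom (Ideal.Quotient.factor (le_sSup I.2))
      naturality := fun _ _ _ => CommRingCat.hom_ext (Ideal.Quotient.ringHom_ext (RingHom.ext fun _ => rfl)) }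

theorem nonempty_isColimit (c : Set (Ideal B)) (hc : IsChain (· ≤ ·) c) (hne : c.Nonempty) :
    Nonempty (IsColimit (quotCocone B c)) := by
  haveI : Nonempty {I : Ideal B // I ∈ c} := hne.to_subtype
  haveI : IsDirectedOrder {I : Ideal B // I ∈ c} := ⟨fun I J => (hc.total I.2 J.2).elim
    (fun h => ⟨J, h, le_rfl⟩) fun h => ⟨I, le_rfl, h⟩⟩
  haveI : PreservesColimitsOfShape {I : Ideal B // I ∈ c} (forget CommRingCat.{u}) := inferInstance
  haveI : HasColimitsOfShape {I : Ideal B // I ∈ c} CommRingCat.{u} := inferInstance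
  haveI : ReflectsColimitsOfShape {I : Ideal B // I ∈ c} (forget CommRingCat.{u}) :=
    reflectsColimitsOfShape_of_reflectsIsomorphisms
  refine ⟨isColimitOfReflects (forget CommRingCat.{u})
    (Types.FilteredColimit.isColimitOf' _ _ (fun x => ?_) (fun I x y h => ?_))⟩
  · obtain ⟨I, hI⟩ := hne
    obtain ⟨b, rfl⟩ := Ideal.Quotient.mk_surjective x
    exact ⟨⟨I, hI⟩, Ideal.Quotient.mk I b, rfl⟩
  · obtain ⟨a, rfl⟩ := Ideal.Quotient.mk_surjective x
    obtain ⟨b, rfl⟩ := Ideal.Quotient.mk_surjective y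
    have h' : a - b ∈ sSup c := Ideal.Quotient.eq.1 h
    obtain ⟨J, hJ, hab⟩ := (Submodule.mem_sSup_of_directed hne hc.directedOn).1 h'
    rcases hc.total I.2 hJ with hle | hle
    · exact ⟨⟨J, hJ⟩, homOfLE hle, Ideal.Quotient.eq.2 hab⟩
    · exact ⟨I, 𝟙 I, Ideal.Quotient.eq.2 (hle hab)⟩

theorem survives_sSup (n : ℕ) (ξ : EtCoh.H (Spec B) F n) (c : Set (Ideal B)) (hc : IsChain (· ≤ ·) c)
    (hne : c.Nonempty) (hs : ∀ I ∈ c, Survives B F n ξ I) : Survives B F n ξ (sSup c) := by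
  intro _ h
  obtain ⟨hcol⟩ := nonempty_isColimit B c hc hne
  haveI : IsDirected {I : Ideal B // I ∈ c} (· ≤ ·) := ⟨fun I J => (hc.total I.2 J.2).elim
    (fun h => ⟨J, h, le_rfl⟩) fun h => ⟨I, le_rfl, h⟩⟩
  let Xs : {I : Ideal B // I ∈ c}ᵒᵖ ⥤ Scheme.{u} := (quotDiagram B c).op ⋙ Scheme.Spec
  let cn : Cone Xs := Scheme.Spec.mapCone (quotCocone B c).op
  haveI : PreservesLimitsOfSize.{u, u} Scheme.Spec.{u} := ΓSpec.adjunction.rightAdjoint_preservesLimits
  have hl : IsLimit cn := isLimitOfPreserves Scheme.Spec hcol.op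
  obtain ⟨I₀, hI₀⟩ := hne
  let i₀ : {I : Ideal B // I ∈ c} := ⟨I₀, hI₀⟩
  haveI : ∀ a, PreservesFiniteLimits (EtCoh.pull (cn.π.app a)) :=
    fun _ => EtSite.preservesFiniteLimits_pull _
  haveI : ∀ ⦃a b⦄ (f : a ⟶ b), PreservesFiniteLimits (EtCoh.pull (Xs.map f)) :=
    fun _ _ _ => EtSite.preservesFiniteLimits_pull _
  haveI := EtSite.preservesFiniteLimits_pull (q B I₀)
  let F₀ : EtCoh.Ab (Xs.obj (op i₀)) := (EtCoh.pull (q B I₀)).obj F
  let ξ₀ : EtCoh.H (Xs.obj (op i₀)) F₀ n := EtCore.Hpull (q B I₀) F n ξ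
  let d : Xs.obj (op i₀) ⟶ Xs.obj (op i₀) := Xs.map (homOfLE (le_refl i₀)).op
  haveI : PreservesFiniteLimits (EtCoh.pull d) := EtSite.preservesFiniteLimits_pull d
  let q₀ : Xs.obj (op i₀) ⟶ Spec B := q B I₀
  haveI : PreservesFiniteLimits (EtCoh.pull q₀) := EtSite.preservesFiniteLimits_pull q₀
  let π₀ : cn.pt ⟶ Xs.obj (op i₀) := cn.π.app (op i₀)
  haveI : PreservesFiniteLimits (EtCoh.pull π₀) := EtSite.preservesFiniteLimits_pull π₀
  let qS : cn.pt ⟶ Spec B := q B (sSup c)
  haveI : PreservesFiniteLimits (EtCoh.pull qS) := ‹PreservesFiniteLimits (EtCoh.pull (q B (sSup c)))›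
  have hlim : EtCore.Hpull (π₀) F₀ n ξ₀ = 0 :=
    (Groth.L28.EtTrace.Hpull_comp_eq_zero_iff (π₀) q₀
      (show π₀ ≫ q₀ = qS from fac_q B (le_sSup hI₀)) F n ξ).2 h
  have hvia : EtCore.HpullVia (π₀) d (π₀) (cn.w (homOfLE (le_refl i₀)).op)
      F₀ n (EtCore.Hpull d F₀ n ξ₀) = 0 := by
    have h0 := (Groth.L28.EtTrace.Hpull_comp_eq_zero_iff (π₀) d
      (cn.w (homOfLE (le_refl i₀)).op) F₀ n ξ₀).2 hlim
    exact (congrArg ((EtCoh.HF cn.pt n).map
      (((EtCore.pullComp (π₀) d).symm ≪≫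
        EtCore.pullCongr (cn.w (homOfLE (le_refl i₀)).op)).app F₀).hom) h0).trans (map_zero _)
  obtain ⟨k, hk, hzero⟩ := (Groth.Agent.S0646.result Xs (fun a b f => @isAffineHom_of_isAffine _ _ (Xs.map f) (inferInstanceAs (IsAffine (Spec _))) (inferInstanceAs (IsAffine (Spec _))))
    (fun _ => inferInstanceAs (CompactSpace (Spec _)))
    (fun _ => inferInstanceAs (QuasiSeparatedSpace (Spec _))) cn hl i₀ F₀ n).2 i₀ le_rfl _ hvia
  haveI := EtSite.preservesFiniteLimits_pull (q B k.1)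
  let φ : Xs.obj (op k) ⟶ Xs.obj (op i₀) := fac B hk
  haveI : PreservesFiniteLimits (EtCoh.pull φ) := EtSite.preservesFiniteLimits_pull φ
  let q₁ : Xs.obj (op k) ⟶ Spec B := q B k.1
  haveI : PreservesFiniteLimits (EtCoh.pull q₁) := EtSite.preservesFiniteLimits_pull q₁
  refine hs k.1 k.2 ?_
  refine (Groth.L28.EtTrace.Hpull_comp_eq_zero_iff φ q₀ (show φ ≫ q₀ = q₁ from fac_q B hk) F n ξ).1 ?_
  refine (Groth.L28.EtTrace.Hpull_comp_eq_zero_iff (Xs.map (homOfLE hk).op) d ?_ F₀ n ξ₀).1 hzero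
  exact (Xs.map_comp _ _).symm

end Chain

section Main

variable {X : Scheme.{u}} [IsIntegral X] (M : Type) [AddCommGroup M] [Finite M]

/-- The iso to the constant sheaf along two pullbacks. -/
noncomputable def constIso {A B C : Scheme.{u}} (f : A ⟶ B) (g : B ⟶ C) :
    (EtCoh.pull f).obj ((EtCoh.pull g).obj (EtCoh.const C M)) ≅ EtCoh.const A M :=
  (EtCoh.pull f).mapIso (EtCore.pullConst g M) ≪≫ EtCore.pullConst f M

theorem subsingleton_step (hN : ∀ x : X, IsIntegrallyClosed (X.presheaf.stalk x))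
    [IsSepClosed X.functionField] (n : ℕ)
    (ih : ∀ {Z : Scheme.{u}} (i : Z ⟶ X) [IsClosedImmersion i],
      Subsingleton (EtCoh.H Z (EtCoh.const Z M) n))
    (B : CommRingCat.{u}) (j : Spec B ⟶ X) [IsClosedImmersion j] :
    Subsingleton (EtCoh.H (Spec B) (EtCoh.const (Spec B) M) (n + 1)) := by
  refine subsingleton_of_forall_eq 0 fun ξ => ?_
  by_contra hξ
  let F := EtCoh.const (Spec B) M
  obtain ⟨m, -, hm⟩ := zorn_le_nonempty₀ {I | Survives B F (n + 1) ξ I}
    (fun c hsub hc y hy => ⟨sSup c, survives_sSup B F (n + 1) ξ c hc ⟨y, hy⟩ (fun I hI => hsub hI),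
      fun I hI => le_sSup hI⟩) ⊥ (survives_bot B F (n + 1) ξ hξ)
  haveI := EtSite.preservesFiniteLimits_pull (q B m)
  have hmb : EtCore.Hpull (q B m) F (n + 1) ξ ≠ 0 := hm.prop
  have hdie : ∀ J : Ideal B, m < J → ∀ [PreservesFiniteLimits (EtCoh.pull (q B J))],
      EtCore.Hpull (q B J) F (n + 1) ξ = 0 := fun J hJ _ => by
    by_contra hne
    exact hJ.not_ge (hm.2 (fun {_} => hne) hJ.le)
  have hkill : ∀ {W : Scheme.{u}} (f : W ⟶ Spec B), Subsingleton (EtCoh.H W (EtCoh.const W M) (n + 1)) →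
      ∀ [PreservesFiniteLimits (EtCoh.pull f)], EtCore.Hpull f F (n + 1) ξ = 0 := fun f hf _ =>
    ((((EtCoh.HF _ (n + 1)).mapIso (EtCore.pullConst f M)).addCommGroupIsoToAddEquiv).toEquiv.injective
      (@Subsingleton.elim _ hf _ _))
  have hprime : m.IsPrime := by
    refine ⟨fun htop => hmb (hkill _ ?_), fun {a b} hab => ?_⟩
    · subst htop
      haveI : IsEmpty ↥(Spec (CommRingCat.of (B ⧸ (⊤ : Ideal B)))) :=
        inferInstanceAs (IsEmpty (PrimeSpectrum (B ⧸ (⊤ : Ideal B))))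
      exact subsingleton_H_of_isEmpty _ _
    by_contra hnot
    push Not at hnot
    let I₁ := m ⊔ Ideal.span {a}
    let I₂ := m ⊔ Ideal.span {b}
    have h₁ : m < I₁ := left_lt_sup.2 fun hle => hnot.1 ((Ideal.span_singleton_le_iff_mem m).1 hle)
    have h₂ : m < I₂ := left_lt_sup.2 fun hle => hnot.2 ((Ideal.span_singleton_le_iff_mem m).1 hle)
    haveI := EtSite.preservesFiniteLimits_pull (q B I₁)
    haveI := EtSite.preservesFiniteLimits_pull (q B I₂)
    haveI := EtSite.preservesFiniteLimits_pull (fac B h₁.le)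
    haveI := EtSite.preservesFiniteLimits_pull (fac B h₂.le)
    refine hmb (ClosedCover.eq_zero_of_cover (fac B h₁.le) (fac B h₂.le) ?_
      (fac B (le_sup_right : I₂ ≤ I₁ ⊔ I₂)) (fac B (le_sup_left : I₁ ≤ I₁ ⊔ I₂)) ?_ ?_ _ n ?_ _
      ((Groth.L28.EtTrace.Hpull_comp_eq_zero_iff (fac B h₁.le) (q B m) (fac_q B h₁.le) F (n + 1) ξ).2
        (hdie I₁ h₁))
      ((Groth.L28.EtTrace.Hpull_comp_eq_zero_iff (fac B h₂.le) (q B m) (fac_q B h₂.le) F (n + 1) ξ).2
        (hdie I₂ h₂)))
    · refine Set.eq_univ_of_forall fun x => ?_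
      have hmx : m ≤ ((q B m).base x).asIdeal := (range_q B m).subset ⟨x, rfl⟩
      rcases ((q B m).base x).isPrime.mem_or_mem (hmx hab) with ha | hb
      · exact Or.inl ((mem_range_fac B h₁.le x).2
          (sup_le hmx ((Ideal.span_singleton_le_iff_mem _).2 ha)))
      · exact Or.inr ((mem_range_fac B h₂.le x).2
          (sup_le hmx ((Ideal.span_singleton_le_iff_mem _).2 hb)))
    · refine (cancel_mono (q B m)).1 ?_
      rw [Category.assoc, Category.assoc, fac_q, fac_q, fac_q, fac_q]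
    · ext x
      have hx : (q B m).base ((fac B h₂.le).base x) = (q B I₂).base x := by
        rw [← Scheme.Hom.comp_apply, fac_q]
      refine (mem_range_fac B le_sup_right x).trans (Iff.trans ?_ (mem_range_fac B h₁.le _).symm)
      rw [hx, sup_le_iff]
      exact and_iff_left ((range_q B I₂).subset ⟨x, rfl⟩)
    · exact @Equiv.subsingleton _ _
        (((EtCoh.HF _ n).mapIso ((EtCoh.pull _).mapIso (EtCore.pullConst (q B m) M) ≪≫
          EtCore.pullConst _ M)).addCommGroupIsoToAddEquiv).toEquiv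
        (ih (q B (I₁ ⊔ I₂) ≫ j))
  haveI := hprime
  exact hmb (hkill _ (subsingleton_integral hN M (q B m ≫ j) n))

theorem subsingleton_closed (hN : ∀ x : X, IsIntegrallyClosed (X.presheaf.stalk x))
    [IsSepClosed X.functionField] [IsAffine X] :
    ∀ (n : ℕ) {Z : Scheme.{u}} (i : Z ⟶ X) [IsClosedImmersion i],
      Subsingleton (EtCoh.H Z (EtCoh.const Z M) (n + 1)) := by
  intro n
  induction n with
  | zero => exact fun {Z} i _ => Groth.Agent.S0092.result hN i M
  | succ n ih =>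
    intro Z i _
    haveI : IsAffine Z := isAffine_of_isAffineHom i
    haveI := subsingleton_step M hN (n + 1) ih Γ(Z, ⊤) (Z.isoSpec.inv ≫ i)
    haveI := EtSite.preservesFiniteLimits_pull Z.isoSpec.hom
    let e := AddEquiv.ofBijective _
      (Groth.L28.AcyComp.bijective_Hpull Z.isoSpec.hom (EtCoh.const (Spec Γ(Z, ⊤)) M) (n + 1 + 1))
    exact @Equiv.subsingleton _ _ (e.trans (((EtCoh.HF Z (n + 1 + 1)).mapIso
      (EtCore.pullConst Z.isoSpec.hom M)).addCommGroupIsoToAddEquiv)).toEquiv.symm inferInstance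

end Main

end Groth.L27.ClosedAcyclic
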