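import Groth.Agent.L27.NormalSepClosed.Algebra
import Mathlib.FieldTheory.Perfect
import Mathlib.FieldTheory.IsSepClosed
import Mathlib.RingTheory.LocalRing.ResidueField.Ideal
import Mathlib.RingTheory.Localization.LocalizationLocalization
import Mathlib.RingTheory.IntegralClosure.IntegrallyClosed

/-! # Residue fields of normal domains with separably closed fraction field -/

universe u

open Polynomial IsLocalRing

set_option linter.style.haveILetI false

namespace Groth.L27.NormalSepClosed

variable {R : Type u} [CommRing R] [IsDomain R] [IsLocalRing R] [IsIntegrallyClosed R]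
  (K : Type u) [Field K] [Algebra R K] [IsFractionRing R K] [IsSepClosed K]

include K in
theorem isAlgClosed_residueField (hm : maximalIdeal R ≠ ⊥) : IsAlgClosed (ResidueField R) := by
  haveI := isSepClosed_residueField (R := R) K
  classical
  obtain ⟨ℓ, hℓ⟩ := CharP.exists (ResidueField R)
  rcases CharP.char_is_prime_or_zero (ResidueField R) ℓ with hp | h0
  · haveI := Fact.mk hp
    obtain ⟨a, ham, ha0⟩ := Submodule.exists_mem_ne_zero_of_ne_bot hm
    haveI : PerfectRing (ResidueField R) ℓ := by
      refine PerfectRing.ofSurjective _ ℓ fun c => ?_
      obtain ⟨c, rfl⟩ := residue_surjective c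
      obtain ⟨r, hr⟩ : ∃ r : K, r ^ ℓ + algebraMap R K (if (ℓ : K) = 0 then a else 0) * r = algebraMap R K c := by
        split_ifs with h
        · have hd : derivative (X ^ ℓ + C (algebraMap R K a) * X - C (algebraMap R K c)) =
              C (algebraMap R K a) := by
            simp [derivative_X_pow, h]
          have hdeg : (X ^ ℓ + C (algebraMap R K a) * X - C (algebraMap R K c)).natDegree = ℓ := by
            have : (C (algebraMap R K a) * X - C (algebraMap R K c)).natDegree < (X ^ ℓ : K[X]).natDegree := by
              rw [natDegree_X_pow]
              exact lt_of_le_of_lt (by compute_degree) hp.one_lt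
            rw [add_sub_assoc, natDegree_add_eq_left_of_natDegree_lt this, natDegree_X_pow]
          have hu : algebraMap R K a ≠ 0 :=
            fun e => ha0 (IsFractionRing.injective R K (e.trans (map_zero _).symm))
          obtain ⟨r, hr⟩ := IsSepClosed.exists_root _ (fun e => hp.ne_zero
              (hdeg.symm.trans (natDegree_eq_of_degree_eq_some e))) (separable_def _ |>.2 (by
              rw [hd]
              exact ⟨0, C (algebraMap R K a)⁻¹, by rw [zero_mul, zero_add, ← C_mul, inv_mul_cancel₀ hu, C_1]⟩))
          refine ⟨r, ?_⟩
          simpa [IsRoot, sub_eq_zero] using hr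
        · haveI : NeZero (ℓ : K) := ⟨h⟩
          obtain ⟨r, hr⟩ := IsSepClosed.exists_pow_nat_eq (algebraMap R K c) ℓ
          exact ⟨r, by rw [map_zero, zero_mul, add_zero, hr]⟩
      set b := (if (ℓ : K) = 0 then a else 0) with hb
      have hbm : b ∈ maximalIdeal R := by rw [hb]; split_ifs <;> simp [ham]
      have hint : IsIntegral R r := ⟨X ^ ℓ + (C b * X - C c), by
        refine monic_X_pow_add ?_
        refine lt_of_le_of_lt (by compute_degree) (show (1 : WithBot ℕ) < (ℓ : ℕ) from WithBot.coe_lt_coe.2 hp.one_lt),
        by simp [← hr]⟩
      obtain ⟨r', rfl⟩ := IsIntegrallyClosed.isIntegral_iff.1 hint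
      refine ⟨residue R r', ?_⟩
      rw [← map_pow, ← map_mul, ← map_add] at hr
      have := congrArg (residue R) (IsFractionRing.injective R K hr)
      rwa [map_add, map_mul, (residue_eq_zero_iff b).2 hbm, zero_mul, add_zero, map_pow] at this
    haveI := PerfectRing.toPerfectField (ResidueField R) ℓ
    infer_instance
  · subst h0
    haveI := CharP.charP_to_charZero (ResidueField R)
    infer_instance

theorem isAlgClosed_prime {A : Type u} [CommRing A] [IsDomain A] [IsIntegrallyClosed A]
    [IsSepClosed (FractionRing A)] (p : Ideal A) [p.IsPrime] (hp : p ≠ ⊥) : IsAlgClosed p.ResidueField := by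
  let R := Localization.AtPrime p
  haveI : IsDomain R := IsLocalization.isDomain_localization (p.primeCompl_le_nonZeroDivisors)
  haveI : IsIntegrallyClosed R := isIntegrallyClosed_of_isLocalization R p.primeCompl p.primeCompl_le_nonZeroDivisors
  letI : Algebra R (FractionRing A) :=
    IsLocalization.localizationAlgebraOfSubmonoidLe R (FractionRing A) p.primeCompl (nonZeroDivisors A)
      p.primeCompl_le_nonZeroDivisors
  haveI : IsScalarTower A R (FractionRing A) :=
    IsLocalization.localization_isScalarTower_of_submonoid_le R (FractionRing A) p.primeCompl _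
      p.primeCompl_le_nonZeroDivisors
  haveI : IsFractionRing R (FractionRing A) :=
    IsFractionRing.isFractionRing_of_isDomain_of_isLocalization p.primeCompl R (FractionRing A)
  refine isAlgClosed_residueField (R := R) (FractionRing A) fun h => hp ?_
  rw [← IsLocalization.AtPrime.under_maximalIdeal R p, h]
  exact Ideal.comap_bot_of_injective _ (IsLocalization.injective R p.primeCompl_le_nonZeroDivisors)

end Groth.L27.NormalSepClosed
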