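import Groth.Agent.L27.NormalSepClosed.Decomp
import Groth.Agent.L27.EtaleLift
import Mathlib.AlgebraicGeometry.Morphisms.ClosedImmersion
import Mathlib.RingTheory.RingHom.Etale
import Mathlib.AlgebraicGeometry.Morphisms.Finite

/-! # Etale schemes over closed subschemes of affine normal schemes -/

universe u

open CategoryTheory CategoryTheory.Limits AlgebraicGeometry Opposite TopologicalSpace
open scoped TensorProduct

set_option backward.isDefEq.respectTransparency.types false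
set_option linter.style.haveILetI false
set_option linter.unusedSectionVars false

namespace Groth.L27.NormalSepClosed

/-- A quasi-compact scheme covered by disjoint opens mapping isomorphically onto open subschemes. -/
theorem exists_finite_decomposition {V Z : Scheme.{u}} [CompactSpace V] (φ : V ⟶ Z) {κ : Type u}
    (O : κ → V.Opens) (hcov : ∀ v : V, ∃ k, v ∈ O k) (hdisj : ∀ k l v, v ∈ O k → v ∈ O l → k = l)
    (hO : ∀ k, IsOpenImmersion ((O k).ι ≫ φ)) :
    ∃ (ι : Type u) (_ : Finite ι) (W : ι → Z.Opens) (e : (∐ fun k => (W k : Scheme.{u})) ≅ V),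
      ∀ k, Sigma.ι (fun k => (W k : Scheme.{u})) k ≫ e.hom ≫ φ = (W k).ι := by
  haveI := hO
  obtain ⟨t, ht⟩ := (isCompact_univ (X := V)).elim_finite_subcover (fun k => (O k : Set V))
    (fun k => (O k).2) (fun v _ => Set.mem_iUnion.2 (hcov v))
  let W : t → Z.Opens := fun k => ((O k).ι ≫ φ).opensRange
  let inc : ∀ k : t, (W k : Scheme.{u}) ⟶ V := fun k => ((O k).ι ≫ φ).isoOpensRange.inv ≫ (O k).ι
  have hr : ∀ k : t, (inc k).opensRange = O k := fun k =>
    ((Scheme.Hom.opensRange_comp_of_isIso _ _).trans (Scheme.Opens.opensRange_ι _))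
  obtain ⟨hc⟩ : Nonempty (IsColimit (Cofan.mk V inc)) := by
    refine nonempty_isColimit_cofanMk_of inc ?_ ?_
    · refine eq_top_iff.2 fun v _ => ?_
      obtain ⟨k, hk, hv⟩ := Set.mem_iUnion₂.1 (ht (Set.mem_univ v))
      refine Opens.mem_iSup.2 ⟨⟨k, hk⟩, ?_⟩
      rw [hr]
      exact hv
    · intro k l hne
      simp only [Function.onFun]
      rw [hr, hr, disjoint_iff, eq_bot_iff]
      intro u hu
      exact hne (Subtype.ext (hdisj _ _ u hu.1 hu.2))
  refine ⟨t, inferInstance, W, (colimit.isColimit _).coconePointUniqueUpToIso hc, fun k => ?_⟩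
  refine ((Category.assoc _ _ _).symm.trans
    (congrArg (· ≫ φ) (IsColimit.comp_coconePointUniqueUpToIso_hom (colimit.isColimit _) hc ⟨k⟩))).trans ?_
  show (((O k).ι ≫ φ).isoOpensRange.inv ≫ (O k).ι) ≫ φ = _
  rw [Category.assoc, Scheme.Hom.isoOpensRange_inv_comp]

/-- An affine etale scheme over a closed subscheme of an affine scheme lifts. -/
theorem exists_etale_lift {V Z X : Scheme.{u}} [IsAffine X] (i : Z ⟶ X) [IsClosedImmersion i]
    (φ : V ⟶ Z) [Etale φ] [IsAffine V] :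
    ∃ (U : Scheme.{u}) (_ : IsAffine U) (g : U ⟶ X) (h : V ⟶ U), Etale g ∧ IsPullback h φ g i := by
  haveI : IsAffine Z := isAffine_of_isAffineHom i
  let A := Γ(X, ⊤)
  let B := Γ(Z, ⊤)
  let Cb := Γ(V, ⊤)
  have hi : Function.Surjective i.appTop := (IsClosedImmersion.isAffine_surjective_of_isAffine i).2
  have hφ : φ.appTop.hom.Etale := (HasRingHomProperty.iff_of_isAffine (P := @Etale)).1 inferInstance
  let I := RingHom.ker i.appTop.hom
  let eI : A ⧸ I ≃+* B := RingHom.quotientKerEquivOfSurjective hi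
  letI : Algebra (A ⧸ I) Cb := (φ.appTop.hom.comp eI.toRingHom).toAlgebra
  haveI : Algebra.Etale (A ⧸ I) Cb := by
    rw [← RingHom.etale_algebraMap, RingHom.algebraMap_toAlgebra]
    exact RingHom.Etale.respectsIso.2 φ.appTop.hom eI hφ
  obtain ⟨C, _, _, hC, ⟨e⟩⟩ := EtaleLift.exists_lift A I Cb
  letI : Algebra A (CommRingCat.of C) := ‹Algebra A C›
  let g : Spec (CommRingCat.of C) ⟶ X := Spec.map (CommRingCat.ofHom (algebraMap A C)) ≫ X.isoSpec.inv
  let k : CommRingCat.of C ⟶ Cb := CommRingCat.ofHom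
    (e.toRingHom.comp (Algebra.TensorProduct.includeRight (R := A) (A := A ⧸ I) (B := C)).toRingHom)
  have hpo : IsPushout i.appTop (CommRingCat.ofHom (algebraMap A C)) φ.appTop k := by
    refine (CommRingCat.isPushout_tensorProduct A (A ⧸ I) C).of_iso (Iso.refl _) eI.toCommRingCatIso (Iso.refl _)
      e.toRingEquiv.toCommRingCatIso ?_ ?_ ?_ ?_
    · ext a; rfl
    · ext a; rfl
    · ext a
      refine (e.commutes a).trans ?_
      rfl
    · ext a; rfl
  have hpb : IsPullback (Spec.map k) (Spec.map φ.appTop) (Spec.map (CommRingCat.ofHom (algebraMap A C)))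
      (Spec.map i.appTop) := (isPullback_SpecMap_of_isPushout _ _ _ _ hpo).flip
  refine ⟨Spec (CommRingCat.of C), inferInstance, g, V.isoSpec.hom ≫ Spec.map k, ?_, ?_⟩
  · haveI : Etale (Spec.map (CommRingCat.ofHom (algebraMap A C))) :=
      (HasRingHomProperty.Spec_iff (P := @Etale)).2 (RingHom.etale_algebraMap.2 hC)
    infer_instance
  · refine hpb.of_iso V.isoSpec.symm (Iso.refl _) Z.isoSpec.symm X.isoSpec.symm ?_ ?_ ?_ ?_
    · simp
    · exact (Scheme.isoSpec_inv_naturality φ)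
    · simp [g]
    · exact (Scheme.isoSpec_inv_naturality i)

theorem exists_splitting {V Z X : Scheme.{u}} [IsAffine X] [IsIntegral X]
    (hN : ∀ x : X, IsIntegrallyClosed (X.presheaf.stalk x)) [IsSepClosed X.functionField]
    (i : Z ⟶ X) [IsClosedImmersion i] (φ : V ⟶ Z) [Etale φ] [IsAffine V] :
    ∃ (ι : Type u) (_ : Finite ι) (W : ι → Z.Opens) (e : (∐ fun k => (W k : Scheme.{u})) ≅ V),
      ∀ k, Sigma.ι (fun k => (W k : Scheme.{u})) k ≫ e.hom ≫ φ = (W k).ι := by
  obtain ⟨U, _, g, h, hg, hpb⟩ := exists_etale_lift i φ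
  haveI := hg
  haveI : IsSeparated g := inferInstance
  refine exists_finite_decomposition φ (fun ξ => h ⁻¹ᵁ branch g hN ξ) ?_ ?_ ?_
  · intro v
    obtain ⟨ξ, hξ, hv⟩ := exists_generic g (h v)
    exact ⟨⟨ξ, hξ⟩, (mem_branch_iff g hN).2 hv⟩
  · intro ξ ξ' v hv hv'
    exact Subtype.ext (generic_unique g hN ξ.2 ((mem_branch_iff g hN).1 hv) ξ'.2 ((mem_branch_iff g hN).1 hv'))
  · intro ξ
    haveI : IsOpenImmersion ((branch g hN ξ).ι ≫ g) := isOpenImmersion_branch g hN ξ.2
    exact MorphismProperty.of_isPullback (P := @IsOpenImmersion)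
      ((isPullback_morphismRestrict h (branch g hN ξ)).flip.paste_horiz hpb.flip).flip inferInstance


/-- A closed map covered by clopen pieces mapping isomorphically onto opens has a section. -/
theorem exists_section_of_pieces {V Z : Scheme.{u}} [CompactSpace V] (φ : V ⟶ Z) [Surjective φ]
    (hφ : IsClosedMap φ) {κ : Type u} (O : κ → V.Opens) (hcl : ∀ k, IsClosed (O k : Set V))
    (hcov : ∀ v : V, ∃ k, v ∈ O k) (hO : ∀ k, IsOpenImmersion ((O k).ι ≫ φ)) :
    ∃ s : Z ⟶ V, s ≫ φ = 𝟙 Z := by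
  haveI := hO
  obtain ⟨t, ht⟩ := (isCompact_univ (X := V)).elim_finite_subcover (fun k => (O k : Set V))
    (fun k => (O k).2) (fun v _ => Set.mem_iUnion.2 (hcov v))
  obtain ⟨n, ⟨eq⟩⟩ := Finite.exists_equiv_fin t
  let W : t → Z.Opens := fun k => ((O k).ι ≫ φ).opensRange
  have hW : ∀ k : t, (W k : Set Z) = φ '' O k := fun k => by
    show Set.range ((O k.1).ι ≫ φ) = _
    rw [Scheme.Hom.comp_base, TopCat.coe_comp, Set.range_comp, Scheme.Opens.range_ι]
  have hWc : ∀ k : t, IsClosed (W k : Set Z) := fun k => (hW k).symm ▸ hφ _ (hcl k.1)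
  let T : t → Z.Opens := fun k =>
    ⟨(W k : Set Z) \ ⋃ l ∈ {l | eq l < eq k}, (W l : Set Z),
      (W k).2.sdiff ((Set.toFinite _).isClosed_biUnion fun l _ => hWc l)⟩
  have hTW : ∀ k, T k ≤ W k := fun k => Set.sdiff_subset
  obtain ⟨hc⟩ : Nonempty (IsColimit (Cofan.mk Z fun k => (T k).ι)) := by
    refine nonempty_isColimit_cofanMk_of _ ?_ ?_
    · refine eq_top_iff.2 fun z _ => ?_
      obtain ⟨v, rfl⟩ := φ.surjective z
      obtain ⟨k, hk, hv⟩ := Set.mem_iUnion₂.1 (ht (Set.mem_univ v))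
      classical
      let P : Finset t := Finset.univ.filter fun l => φ v ∈ W l
      have hP : P.Nonempty := ⟨⟨k, hk⟩, Finset.mem_filter.2 ⟨Finset.mem_univ _,
        show φ v ∈ (W ⟨k, hk⟩ : Set Z) from (hW ⟨k, hk⟩).symm ▸ ⟨v, hv, rfl⟩⟩⟩
      obtain ⟨l, hl, hmin⟩ := P.exists_min_image eq hP
      refine Opens.mem_iSup.2 ⟨l, ?_⟩
      rw [Scheme.Opens.opensRange_ι]
      refine ⟨(Finset.mem_filter.1 hl).2, fun h => ?_⟩
      obtain ⟨j, hj, hjv⟩ := Set.mem_iUnion₂.1 h
      exact absurd (hmin j (Finset.mem_filter.2 ⟨Finset.mem_univ _, hjv⟩)) (not_le.2 hj)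
    · intro k l hne
      simp only [Function.onFun, Scheme.Opens.opensRange_ι]
      rw [disjoint_iff, eq_bot_iff]
      intro z hz
      rcases lt_trichotomy (eq k) (eq l) with h | h | h
      · exact hz.2.2 (Set.mem_iUnion₂.2 ⟨k, h, hz.1.1⟩)
      · exact hne (eq.injective h)
      · exact hz.1.2 (Set.mem_iUnion₂.2 ⟨l, h, hz.2.1⟩)
  refine ⟨Cofan.IsColimit.desc hc fun k =>
    Z.homOfLE (hTW k) ≫ ((O k).ι ≫ φ).isoOpensRange.inv ≫ (O k).ι, ?_⟩
  refine Cofan.IsColimit.hom_ext hc _ _ fun k => ?_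
  rw [Cofan.IsColimit.fac_assoc, Category.assoc, Category.assoc, Scheme.Hom.isoOpensRange_inv_comp,
    Scheme.homOfLE_ι]
  exact (Category.comp_id _).symm

theorem exists_section_closed {V Z X : Scheme.{u}} [IsAffine X] [IsIntegral X]
    (hN : ∀ x : X, IsIntegrallyClosed (X.presheaf.stalk x)) [IsSepClosed X.functionField]
    (i : Z ⟶ X) [IsClosedImmersion i] (φ : V ⟶ Z) [Etale φ] [IsFinite φ] [Surjective φ] :
    ∃ s : Z ⟶ V, s ≫ φ = 𝟙 Z := by
  haveI : IsAffine Z := isAffine_of_isAffineHom i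
  haveI : IsAffine V := isAffine_of_isAffineHom φ
  obtain ⟨U, _, g, h, hg, hpb⟩ := exists_etale_lift i φ
  haveI := hg
  haveI : IsSeparated g := inferInstance
  refine exists_section_of_pieces φ φ.isClosedMap (fun ξ => h ⁻¹ᵁ branch g hN ξ)
    (fun ξ => isClosed_closure.preimage h.continuous) ?_ ?_
  · intro v
    obtain ⟨ξ, hξ, hv⟩ := exists_generic g (h v)
    exact ⟨⟨ξ, hξ⟩, (mem_branch_iff g hN).2 hv⟩
  · intro ξ
    haveI : IsOpenImmersion ((branch g hN ξ).ι ≫ g) := isOpenImmersion_branch g hN ξ.2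
    exact MorphismProperty.of_isPullback (P := @IsOpenImmersion)
      ((isPullback_morphismRestrict h (branch g hN ξ)).flip.paste_horiz hpb.flip).flip inferInstance

end Groth.L27.NormalSepClosed
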