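import Groth.Agent.L27.NormalSepClosed.ConstSect
import Groth.Agent.S7180
import Mathlib.AlgebraicGeometry.PullbackCarrier
import Mathlib.AlgebraicGeometry.Morphisms.QuasiCompact
import Mathlib.AlgebraicGeometry.Morphisms.UniversallyOpen
import Mathlib.RingTheory.Spectrum.Prime.Topology
import Mathlib.RingTheory.Ideal.MinimalPrime.Basic

/-! # Constant sheaves and dense quasi-compact open subschemes of normal schemes -/

universe u

open CategoryTheory CategoryTheory.Limits AlgebraicGeometry Opposite TopologicalSpace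

set_option backward.isDefEq.respectTransparency.types false
set_option linter.style.haveILetI false
set_option linter.unusedSectionVars false

namespace Groth.L27.NormalSepClosed

/-- The closure of a quasi-compact open of an affine scheme consists of specializations. -/
theorem exists_specializes_of_mem_closure {W : Scheme.{u}} [IsAffine W] {C : W.Opens}
    (hC : IsCompact (C : Set W)) {x : W} (hx : x ∈ closure (C : Set W)) : ∃ c ∈ (C : Set W), c ⤳ x := by
  obtain ⟨R, f, hf⟩ := isCompact_iff_exists.1 hC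
  let e : W ≃ₜ PrimeSpectrum Γ(W, ⊤) := Scheme.homeoOfIso W.isoSpec
  obtain ⟨φ, hφ⟩ : ∃ φ : Γ(W, ⊤) ⟶ R, Spec.map φ = f ≫ W.isoSpec.hom := Spec.map_surjective _
  have hr : e '' (C : Set W) = Set.range (PrimeSpectrum.comap φ.hom) := by
    rw [← hf, ← Set.range_comp]
    show Set.range (f ≫ W.isoSpec.hom) = _
    rw [← hφ]
    rfl
  have h1 : e x ∈ closure (e '' (C : Set W)) := by
    rw [← e.image_closure]
    exact ⟨x, hx, rfl⟩
  rw [hr, PrimeSpectrum.closure_range_comap] at h1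
  obtain ⟨P, hP, hPx⟩ := Ideal.exists_minimalPrimes_le (show RingHom.ker φ.hom ≤ (e x).asIdeal from h1)
  obtain ⟨Q, hQ, hQP⟩ := Ideal.exists_comap_eq_of_mem_minimalPrimes φ.hom P (I := ⊥) hP
  obtain ⟨c, hc, hce⟩ : (⟨P, hP.1.1⟩ : PrimeSpectrum Γ(W, ⊤)) ∈ e '' (C : Set W) := by
    rw [hr]
    exact ⟨⟨Q, hQ⟩, PrimeSpectrum.ext hQP.2⟩
  refine ⟨c, hc, ?_⟩
  rw [← e.isInducing.specializes_iff, hce]
  exact (PrimeSpectrum.le_iff_specializes _ _).1 hPx

variable {X Y : Scheme.{u}} (hX : Pi1.IsNormalScheme X) (j : Y ⟶ X) [IsOpenImmersion j] [QuasiCompact j]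
  (hj : Dense (Set.range j)) (A : AddCommGrpCat.{u + 1})

include hX in
/-- Generizations in an etale scheme over a normal scheme are directed. -/
theorem exists_common_generization {U : X.Etale} {x c c' : U.left} (h : c ⤳ x) (h' : c' ⤳ x) :
    ∃ b : U.left, b ⤳ c ∧ b ⤳ c' := by
  haveI : Etale U.hom := U.prop
  haveI : IsDomain (U.left.presheaf.stalk x) := (Groth.Agent.S7180.result U.hom hX x).1
  let b : Spec (U.left.presheaf.stalk x) := ⟨⊥, Ideal.isPrime_bot⟩
  have key : ∀ d : U.left, d ⤳ x → U.left.fromSpecStalk x b ⤳ d := fun d hd => by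
    obtain ⟨p, hp⟩ : d ∈ Set.range (U.left.fromSpecStalk x) := by
      rw [Scheme.range_fromSpecStalk]; exact hd
    exact hp ▸ Specializes.map ((PrimeSpectrum.le_iff_specializes (R := U.left.presheaf.stalk x) b p).1
      (show (⊥ : Ideal (U.left.presheaf.stalk x)) ≤ p.asIdeal from bot_le))
      (U.left.fromSpecStalk x).continuous
  exact ⟨_, key c h, key c' h'⟩

theorem range_fst_bc (U : X.Etale) :
    Set.range (pullback.fst U.hom j) = U.hom ⁻¹' Set.range j :=
  Scheme.Pullback.range_fst U.hom j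

include hX hj in
theorem isIso_cmp_dense : IsIso (ConstSect.cmp A j) := by
  have hne : ∀ U : X.Etale, Nonempty U.left → Nonempty ((EtCoh.bc j).obj U).left := fun U ⟨x⟩ => by
    haveI : Etale U.hom := U.prop
    obtain ⟨_, ⟨y, rfl⟩, hy⟩ := hj.exists_mem_open U.hom.isOpenMap.isOpen_range ⟨_, x, rfl⟩
    obtain ⟨z, hz⟩ := hy
    obtain ⟨w, -⟩ : z ∈ Set.range (pullback.fst U.hom j) := by
      rw [range_fst_bc]; exact ⟨y, hz.symm⟩
    exact ⟨w⟩
  refine ConstSect.isIso_cmp_of_local A j hne fun U t x => ?_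
  haveI : Etale U.hom := U.prop
  obtain ⟨_, ⟨(W : U.left.Opens), hW, rfl⟩, hxW, -⟩ :=
    U.left.isBasis_affineOpens.exists_subset_of_mem_open (Set.mem_univ x) isOpen_univ
  haveI : IsAffine (W : Scheme.{u}) := hW
  let WE : X.Etale := Scheme.Etale.mk (W.ι ≫ U.hom)
  let g : WE ⟶ U := MorphismProperty.Over.homMk W.ι rfl
  let P := (EtCoh.bc j).obj WE
  let p : P.left ⟶ WE.left := pullback.fst WE.hom j
  haveI : IsOpenImmersion p := inferInstanceAs (IsOpenImmersion (pullback.fst WE.hom j))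
  haveI : CompactSpace P.left := by
    haveI : QuasiCompact p := MorphismProperty.pullback_fst (P := @QuasiCompact) WE.hom j inferInstance
    haveI : CompactSpace WE.left := inferInstanceAs (CompactSpace (W : Scheme.{u}))
    exact QuasiCompact.compactSpace_of_compactSpace p
  obtain ⟨t', ht'⟩ : ∃ t', (ConstSect.K A Y).obj.map ((EtCoh.bc j).map g).op t = t' := ⟨_, rfl⟩
  let Sa : A → Set P.left := fun a => {z | ∃ (Z : Y.Etale) (h : Z ⟶ P) (w : Z.left),
    h.left w = z ∧ (ConstSect.K A Y).obj.map h.op t' = ConstSect.cst A Z a}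
  have hSo : ∀ a, IsOpen (Sa a) := fun a => isOpen_iff_forall_mem_open.2 fun z ⟨Z, h, w, hw, e⟩ => by
    haveI : Etale h.left := EtSite.etale_left h
    exact ⟨Set.range h.left, fun _ ⟨w', hw'⟩ => ⟨Z, h, w', hw', e⟩, h.left.isOpenMap.isOpen_range, ⟨w, hw⟩⟩
  have hScov : ∀ z, ∃ a, z ∈ Sa a := fun z => by
    obtain ⟨Z, h, w, a, hw, e⟩ := ConstSect.exists_locally_cst A t' z
    exact ⟨a, Z, h, w, hw, e⟩
  have hSdisj : ∀ {a b z}, z ∈ Sa a → z ∈ Sa b → a = b := by
    rintro a b z ⟨Z, h, w, hw, e⟩ ⟨Z', h', w', hw', e'⟩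
    obtain ⟨T, q, q', τ, -, -, hq⟩ := EtSite.exists_common h h' w w' (hw.trans hw'.symm)
    haveI : Nonempty T.left := ⟨τ⟩
    refine ConstSect.cst_injective A T ?_
    rw [← ConstSect.map_cst A q a, ← e, ← ConstSect.map_cst A q' b, ← e', ← Functor.map_comp_apply,
      ← Functor.map_comp_apply, ← op_comp, ← op_comp, hq]
  have hScpt : ∀ a, IsCompact (Sa a) := fun a => IsClosed.isCompact (isOpen_compl_iff.1 (by
    have : (Sa a)ᶜ = ⋃ b ∈ {b | b ≠ a}, Sa b := by
      ext z
      simp only [Set.mem_compl_iff, Set.mem_iUnion]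
      exact ⟨fun hz => let ⟨b, hb⟩ := hScov z; ⟨b, fun h => hz (h ▸ hb), hb⟩,
        fun ⟨b, hne, hb⟩ ha => hne (hSdisj hb ha)⟩
    rw [this]
    exact isOpen_biUnion fun b _ => hSo b))
  let C : A → WE.left.Opens := fun a => ⟨p '' Sa a, p.isOpenEmbedding.isOpenMap _ (hSo a)⟩
  have hCc : ∀ a, IsCompact (C a : Set WE.left) := fun a => (hScpt a).image p.continuous
  haveI : IsAffine WE.left := inferInstanceAs (IsAffine (W : Scheme.{u}))
  have huniq : ∀ {a b} (w : WE.left), w ∈ closure (C a : Set WE.left) → w ∈ closure (C b : Set WE.left) →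
      a = b := by
    intro a b w ha hb
    obtain ⟨c, hc, hcw⟩ := exists_specializes_of_mem_closure (hCc a) ha
    obtain ⟨c', hc', hcw'⟩ := exists_specializes_of_mem_closure (hCc b) hb
    obtain ⟨d, hd, hd'⟩ := exists_common_generization hX hcw hcw'
    obtain ⟨z, hz, hzd⟩ := hd.mem_open (C a).2 hc
    obtain ⟨z', hz', hzd'⟩ := hd'.mem_open (C b).2 hc'
    exact hSdisj hz ((p.isOpenEmbedding.injective (hzd.trans hzd'.symm)) ▸ hz')
  obtain ⟨T, hT⟩ := (isCompact_univ (X := P.left)).elim_finite_subcover Sa hSo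
    (fun z _ => Set.mem_iUnion.2 (hScov z))
  have hdense : Dense (Set.range p) := by
    haveI : Etale WE.hom := WE.prop
    rw [show Set.range p = _ from range_fst_bc j WE]
    exact hj.preimage WE.hom.isOpenMap
  obtain ⟨a, ha⟩ : ∃ a, (⟨x, hxW⟩ : WE.left) ∈ closure (C a : Set WE.left) := by
    have h0 : Set.range p ⊆ ⋃ b ∈ T, (C b : Set WE.left) := by
      rintro _ ⟨z, rfl⟩
      obtain ⟨b, hb, hz⟩ := Set.mem_iUnion₂.1 (hT (Set.mem_univ z))
      exact Set.mem_iUnion₂.2 ⟨b, hb, z, hz, rfl⟩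
    have := closure_mono h0 (hdense (⟨x, hxW⟩ : WE.left))
    rw [T.closure_biUnion] at this
    obtain ⟨b, -, hb⟩ := Set.mem_iUnion₂.1 this
    exact ⟨b, hb⟩
  classical
  let O : WE.left.Opens := ⟨(⋃ b ∈ (T.erase a : Finset A), closure (C b : Set WE.left))ᶜ,
    ((T.erase a).finite_toSet.isClosed_biUnion fun _ _ => isClosed_closure).isOpen_compl⟩
  have hxO : (⟨x, hxW⟩ : WE.left) ∈ O := fun h => by
    obtain ⟨b, hb, hxb⟩ := Set.mem_iUnion₂.1 h
    exact (Finset.mem_erase.1 hb).1 (huniq _ hxb ha)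
  haveI : Etale WE.hom := WE.prop
  let OE : X.Etale := Scheme.Etale.mk (Scheme.Opens.ι O ≫ WE.hom)
  let o : OE ⟶ WE := MorphismProperty.Over.homMk (Scheme.Opens.ι O) rfl
  refine ⟨OE, o ≫ g, ⟨⟨x, hxW⟩, hxO⟩, a, rfl, ?_⟩
  rw [Functor.map_comp, op_comp, Functor.map_comp_apply, ht']
  refine EtSite.ext_of_locally (ConstSect.K A Y) fun z => ?_
  obtain ⟨b, hbT, hb⟩ := Set.mem_iUnion₂.1 (hT (Set.mem_univ (((EtCoh.bc j).map o).left z)))
  have hzO : p (((EtCoh.bc j).map o).left z) ∈ O := by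
    have : p (((EtCoh.bc j).map o).left z) = o.left (pullback.fst OE.hom j z) :=
      (Scheme.Hom.comp_apply _ _ _).symm.trans ((congrArg (fun m => m z)
        (EtCoh.isPullback_bc_map j o).w).trans (Scheme.Hom.comp_apply _ _ _))
    rw [this]
    exact (Scheme.Opens.range_ι O).subset ⟨_, rfl⟩
  have hba : b = a := by
    by_contra hne
    exact hzO (Set.mem_iUnion₂.2 ⟨b, Finset.mem_erase.2 ⟨hne, hbT⟩, subset_closure ⟨_, hb, rfl⟩⟩)
  subst hba
  obtain ⟨Z, h, w, hw, e⟩ := hb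
  obtain ⟨V, q, q', τ, hq1, hq2, hq⟩ := EtSite.exists_common ((EtCoh.bc j).map o) h z w hw.symm
  refine ⟨V, q, τ, hq1, ?_⟩
  rw [ConstSect.map_cst, ← Functor.map_comp_apply, ← op_comp, hq, op_comp, Functor.map_comp_apply]
  exact (congrArg _ e).trans (ConstSect.map_cst A q' _)

end Groth.L27.NormalSepClosed
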