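import Groth.Agent.L27.NormalSepClosed.ConstSect
import Groth.Agent.S2787
import Mathlib.AlgebraicGeometry.PullbackCarrier
import Mathlib.AlgebraicGeometry.Morphisms.Preimmersion
import Mathlib.AlgebraicGeometry.Morphisms.Flat
import Mathlib.AlgebraicGeometry.FunctionField

/-! # Constant sheaves on irreducible geometrically unibranch schemes -/

universe u

open CategoryTheory CategoryTheory.Limits AlgebraicGeometry Opposite TopologicalSpace

set_option backward.isDefEq.respectTransparency.types false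
set_option linter.style.haveILetI false

namespace Groth.L27.ConstUnibranch

variable {X : Scheme.{u}} [IrreducibleSpace X]

theorem nonempty_bc {Y : Scheme.{u}} (f : Y ⟶ X) (hf : genericPoint X ∈ Set.range f) (U : X.Etale)
    (h : Nonempty U.left) : Nonempty ((EtCoh.bc f).obj U).left := by
  haveI : Etale U.hom := U.prop
  obtain ⟨ξ, -, hξ⟩ := Flat.generalizingMap U.hom ((genericPoint_spec X).specializes (Set.mem_univ (U.hom h.some)))
  obtain ⟨z, -⟩ : ξ ∈ Set.range (pullback.fst U.hom f) := by
    rw [Scheme.Pullback.range_fst U.hom f]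
    show U.hom ξ ∈ Set.range f
    rw [hξ]
    exact hf
  exact ⟨z⟩

theorem isIso_cmp_point (hX : ∀ x : X, CAlg2.IsGeomUnibranch (X.presheaf.stalk x))
    (A : AddCommGrpCat.{u + 1}) {Y : Scheme.{u}} (f : Y ⟶ X) [IsPreimmersion f]
    (hrange : Set.range f = {genericPoint X}) : IsIso (ConstSect.cmp A f) := by
  refine ConstSect.isIso_cmp A f (nonempty_bc f (hrange.symm.subset rfl)) fun U x => ?_
  haveI : Etale U.hom := U.prop
  obtain ⟨h1, h2⟩ := @Groth.Agent.S2787.result U.left X U.hom U.prop inferInstance hX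
  obtain ⟨Z, ⟨hZ, hxZ⟩, -⟩ := h1 x
  obtain ⟨hZo, ξ, -, huniq⟩ := h2 Z hZ
  let O : U.left.Opens := ⟨Z, hZo⟩
  let W : X.Etale := Scheme.Etale.mk (Scheme.Opens.ι O ≫ U.hom)
  refine ⟨W, MorphismProperty.Over.homMk (Scheme.Opens.ι O) rfl, ⟨x, hxZ⟩, rfl, ?_⟩
  haveI : IsPreimmersion (pullback.fst W.hom f) :=
    MorphismProperty.pullback_fst (P := @IsPreimmersion) W.hom f inferInstance
  have hp : ∀ z : (pullback W.hom f : Scheme.{u}), W.hom (pullback.fst W.hom f z) = genericPoint X := fun z => by
    have : pullback.fst W.hom f z ∈ W.hom ⁻¹' Set.range f :=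
      (Scheme.Pullback.range_fst W.hom f).subset ⟨z, rfl⟩
    rw [hrange] at this
    exact this
  have key : ∀ a : W.left, W.hom a = genericPoint X → (a : (O : Scheme.{u})).1 = ξ :=
    fun a ha => huniq _ ⟨(a : (O : Scheme.{u})).2, ha⟩
  haveI : Subsingleton ((EtCoh.bc f).obj W).left :=
    ⟨fun z z' => (pullback.fst W.hom f).isEmbedding.injective
      (Subtype.ext ((key _ (hp z)).trans (key _ (hp z')).symm))⟩
  exact ⟨(Set.subsingleton_univ).isPreirreducible⟩

end Groth.L27.ConstUnibranch
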