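import Groth.Agent.L27.NormalSepClosed.Acyclic
import Groth.Agent.L27.NormalSepClosed.ClosedAcyclic
import Groth.Agent.L27.NormalSepClosed.ConstNormal
import Groth.Agent.L27.LimCoh.HMaps
import Mathlib.SetTheory.Cardinal.Finite

/-! # Constant coefficients on normal schemes with separably closed function field -/

universe u

open CategoryTheory CategoryTheory.Limits AlgebraicGeometry Opposite TopologicalSpace

set_option backward.isDefEq.respectTransparency.types false
set_option linter.style.haveILetI false
set_option linter.unusedSectionVars false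

noncomputable section

namespace Groth.L27.NormalSepClosed

open Groth.L27.LimCoh

variable {X : Scheme.{u}} [IsIntegral X] (hN : ∀ x : X, IsIntegrallyClosed (X.presheaf.stalk x))
  [IsSepClosed X.functionField] (M : Type) [AddCommGroup M]

include hN in
theorem subsingleton_H_const_succ (n : ℕ) : Subsingleton (EtCoh.H X (EtCoh.const X M) (n + 1)) :=
  Groth.L27.ClosedAcyclic.subsingleton_H_of_flasque (hSH hN) n _ (NormalSepClosed.flasque_const (AddCommGrpCat.of (ULift.{u + 1} M)))

theorem card_H_const_zero : Nat.card (EtCoh.H X (EtCoh.const X M) 0) = Nat.card M := by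
  let A := AddCommGrpCat.of (ULift.{u + 1} M)
  haveI : Nonempty (EtCoh.top X).left := inferInstanceAs (Nonempty X)
  haveI : PreirreducibleSpace (EtCoh.top X).left := inferInstanceAs (PreirreducibleSpace X)
  have hb : Function.Bijective (ConstSect.cst A (EtCoh.top X)) :=
    ⟨ConstSect.cst_injective A _, fun s => (ConstSect.exists_eq_cst A _ s).imp fun _ => Eq.symm⟩
  rw [Nat.card_congr (secEq (EtCoh.const X M)).toEquiv, ← Nat.card_congr (Equiv.ofBijective _ hb)]
  exact Nat.card_congr Equiv.ulift

include hN in
theorem isIso_unit_open (U : X.Opens) (hU : (U : Set X).Nonempty) :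
    IsIso ((EtCoh.pullPushAdj U.ι).unit.app (EtCoh.const X M)) := by
  let A := AddCommGrpCat.of (ULift.{u + 1} M)
  haveI : IsIso ((EtCoh.pullPushAdj U.ι).unit.app (EtCoh.const X M) ≫
      (EtCoh.push U.ι).map ((EtCore.pullConstIso U.ι).hom.app A)) := isIso_cmp_open hN A U hU
  exact IsIso.of_isIso_comp_right _ ((EtCoh.push U.ι).map ((EtCore.pullConstIso U.ι).hom.app A))

end Groth.L27.NormalSepClosed
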